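import Groth.Agent.Sga7.H756.GenBase
import Groth.Agent.Ega3B.NormalBirational
import Mathlib.RingTheory.DiscreteValuationRing.Basic
import Mathlib.RingTheory.DiscreteValuationRing.TFAE

/-!
# The generic point of the spectrum of a discrete valuation ring
-/

set_option autoImplicit false

universe u

open CategoryTheory CategoryTheory.Limits AlgebraicGeometry

namespace Groth.Agent.Sga7.H756.DvrPt

variable (R K : Type u) [CommRing R] [IsDomain R] [IsDiscreteValuationRing R] [Field K]
  [Algebra R K] [IsFractionRing R K]

/-- The generic point. -/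
noncomputable abbrev jK : Spec (CommRingCat.of K) ⟶ Spec (CommRingCat.of R) :=
  Spec.map (CommRingCat.ofHom (algebraMap R K))

theorem isLocalizationAway {ϖ : R} (hϖ : Irreducible ϖ) : IsLocalization.Away ϖ K := by
  refine (IsLocalization.iff_of_le_of_exists_dvd (M := Submonoid.powers ϖ) (S := K)
    (nonZeroDivisors R) ?_ ?_).2 inferInstance
  · rw [Submonoid.powers_le]
    exact mem_nonZeroDivisors_of_ne_zero hϖ.ne_zero
  · intro n hn
    obtain ⟨k, hk⟩ := IsDiscreteValuationRing.associated_pow_irreducible
      (nonZeroDivisors.ne_zero hn) hϖ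
    exact ⟨ϖ ^ k, ⟨k, rfl⟩, hk.dvd⟩

instance isOpenImmersion_jK : IsOpenImmersion (jK R K) := by
  obtain ⟨ϖ, hϖ⟩ := IsDiscreteValuationRing.exists_irreducible R
  have := isLocalizationAway R K hϖ
  exact IsOpenImmersion.of_isLocalization ϖ

instance isSchemeTheoreticallyDominant_jK : IsSchemeTheoreticallyDominant (jK R K) := by
  have : IsDominant (jK R K) := by
    constructor
    change DenseRange (PrimeSpectrum.comap (algebraMap R K))
    rw [PrimeSpectrum.denseRange_comap_iff_ker_le_nilRadical,
      (RingHom.injective_iff_ker_eq_bot _).mp (IsFractionRing.injective R K)]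
    exact bot_le
  exact .of_isDominant _

theorem isIso_fromNormalization_jK : IsIso (jK R K).fromNormalization := by
  refine Groth.Agent.Ega3B.NormalBirational.isIso_fromNormalization ?_ _ ?_ ?_
  · intro y
    have h1 : IsIntegrallyClosed (Localization.AtPrime y.asIdeal) :=
      isIntegrallyClosed_of_isLocalization (R := R) _ y.asIdeal.primeCompl
        y.asIdeal.primeCompl_le_nonZeroDivisors
    exact IsIntegrallyClosed.of_equiv (StructureSheaf.stalkIso R y).toRingEquiv
  · have h1 := (genericPoint_spec (Spec (CommRingCat.of K))).image (jK R K).continuous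
    rw [Set.image_univ, (jK R K).denseRange.closure_range] at h1
    exact h1.eq (genericPoint_spec _)
  · infer_instance

omit [IsDomain R] [IsDiscreteValuationRing R] in
theorem jK_apply (z : Spec (CommRingCat.of K)) : ((jK R K) z).asIdeal = ⊥ := by
  change Ideal.comap (algebraMap R K) z.asIdeal = ⊥
  have : z.asIdeal = ⊥ := by
    have h1 : (z.asIdeal : Ideal K).IsPrime := z.isPrime
    exact (Ideal.eq_bot_or_top z.asIdeal).resolve_right h1.ne_top
  rw [this, ← RingHom.ker_eq_comap_bot]
  exact (RingHom.injective_iff_ker_eq_bot _).mp (IsFractionRing.injective R K)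

theorem exists_jK_eq (s : Spec (CommRingCat.of R)) (hs : s ≠ IsLocalRing.closedPoint R) :
    ∃ z, (jK R K) z = s := by
  have h0 : s.asIdeal = ⊥ := by
    by_contra h
    apply hs
    apply PrimeSpectrum.ext
    have : s.asIdeal.IsPrime := s.isPrime
    exact IsLocalRing.eq_maximalIdeal (this.isMaximal h)
  refine ⟨(⊥ : PrimeSpectrum K), ?_⟩
  apply PrimeSpectrum.ext
  rw [jK_apply, h0]

end Groth.Agent.Sga7.H756.DvrPt
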