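import Groth.Prelude.Def_SGA7IX
import Groth.Agent.Grpsch.MulFinFlat
import Groth.Agent.Grpsch.KerMul
import Groth.Agent.Sga3.H794.PowReduced
import Groth.Agent.Sga7.H760.L2
import Mathlib.AlgebraicGeometry.Sites.Fpqc

/-!
# The complementary isogeny
-/

set_option autoImplicit false

universe u

open CategoryTheory CategoryTheory.Limits AlgebraicGeometry MonoidalCategory
  CartesianMonoidalCategory MonObj GrpObj

namespace Groth.Agent.Sga7.H756.RevIsog

/-- A finite group scheme over a field is killed by a positive integer. -/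
theorem exists_pow_eq_one (K : Type u) [Field K] (F : Over (Spec (CommRingCat.of K))) [GrpObj F]
    [IsFinite F.hom] : ∃ n : ℕ, 1 ≤ n ∧ (𝟙 F : F ⟶ F) ^ n = 1 := by
  have hsub : Subsingleton ↥(Spec (CommRingCat.of K)) :=
    inferInstanceAs (Subsingleton (PrimeSpectrum K))
  let y : Spec (CommRingCat.of K) := IsLocalRing.closedPoint K
  have hfl : Flat F.hom := inferInstance
  have hlfp : LocallyOfFinitePresentation F.hom := by
    have : IsNoetherianRing (CommRingCat.of K) := inferInstanceAs (IsNoetherianRing K)
    infer_instance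
  have hy : F.hom (η[F].left y) = y := Subsingleton.elim _ _
  refine ⟨F.hom.finrank y, ?_, ?_⟩
  · rw [← hy]
    exact Scheme.Hom.one_le_finrank_map F.hom _
  · refine Groth.Agent.Sga3.H794.PowReduced.pow_eq_one_affine K F _ ⟨⟨‹_›, hfl, hlfp⟩, ?_⟩
    intro z
    rw [Subsingleton.elim z y]

section

set_option linter.unusedSectionVars false

variable (K : Type u) [Field K] (C A : Over (Spec (CommRingCat.of K)))
  [GrpObj C] [IsProper C.hom] [GeometricallyIntegral C.hom]
  [GrpObj A] [IsProper A.hom] [GeometricallyIntegral A.hom]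

theorem isIntegral_left : IsIntegral A.left :=
  GeometricallyIntegral.isIntegral_of_subsingleton A.hom

theorem isLocallyNoetherian_left : IsLocallyNoetherian A.left := by
  have : IsNoetherianRing (CommRingCat.of K) := inferInstanceAs (IsNoetherianRing K)
  exact LocallyOfFiniteType.isLocallyNoetherian (Y := Spec (CommRingCat.of K)) A.hom

variable {C A}

theorem quasiCompact_left (u : C ⟶ A) : QuasiCompact u.left := by
  have h : IsProper (u.left ≫ A.hom) := by rw [Over.w]; infer_instance
  have : IsProper u.left := IsProper.of_comp u.left A.hom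
  infer_instance

theorem flat_left (u : C ⟶ A) [IsMonHom u] [Surjective u.left] : Flat u.left := by
  have := quasiCompact_left K u
  have := isIntegral_left K A
  have := isLocallyNoetherian_left K A
  exact Groth.Agent.Grpsch.MulFinFlat.flat_of_surjective K u

/-- Existence of the complementary isogeny. -/
theorem exists_rev (u : C ⟶ A) [IsMonHom u] (hu : SGA7.IsIsogenyOver u) :
    ∃ (n : ℕ) (v : A ⟶ C), 1 ≤ n ∧ IsMonHom v ∧ u ≫ v = (𝟙 C) ^ n ∧ v ≫ u = (𝟙 A) ^ n := by
  obtain ⟨hsurj, hker⟩ := hu
  obtain ⟨F, _, i, hi, hF⟩ := Groth.Agent.Grpsch.KerMul.exists_kernel u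
  have hfin : IsFinite F.hom := hker F i hF
  obtain ⟨n, hn, hpow⟩ := exists_pow_eq_one K F
  have hqc := quasiCompact_left K u
  have hfl := flat_left K u
  have hcomm : IsCommMonObj C := isCommMonObj_of_isProper_of_geometricallyIntegral C
  have hcommA : IsCommMonObj A := isCommMonObj_of_isProper_of_geometricallyIntegral A
  -- two points with the same image under `u` have the same `n`-th power
  have key : ∀ {Z : Over (Spec (CommRingCat.of K))} (a b : Z ⟶ C), a ≫ u = b ≫ u →
      a ≫ (𝟙 C) ^ n = b ≫ (𝟙 C) ^ n := by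
    intro Z a b hab
    have h1 : (a * b⁻¹) ≫ u = toUnit Z ≫ η[A] := by
      rw [MonObj.mul_comp, GrpObj.inv_comp, hab, mul_inv_cancel]
      rfl
    let k : Z ⟶ F := hF.lift (a * b⁻¹) (toUnit Z) h1
    have hk : k ≫ i = a * b⁻¹ := hF.lift_fst _ _ _
    have h2 : (a * b⁻¹) ^ n = 1 := by
      rw [← hk, ← MonObj.pow_comp]
      have h3 : k ^ n = 1 := by
        have h4 : k ≫ (𝟙 F) ^ n = k ^ n := by rw [MonObj.comp_pow, Category.comp_id]
        rw [← h4, hpow, MonObj.comp_one]
      rw [h3, MonObj.one_comp]
    rw [MonObj.comp_pow, MonObj.comp_pow, Category.comp_id, Category.comp_id]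
    have hc : Commute a b⁻¹ := by
      have : a * b⁻¹ = b⁻¹ * a := Hom.commGroup.mul_comm _ _
      exact this
    rw [hc.mul_pow, inv_pow] at h2
    exact mul_inv_eq_one.1 h2
  obtain ⟨v, hv⟩ := Groth.Agent.Sga7.H760.GaQuot.exists_desc u ((𝟙 C) ^ n)
    (fun T a b hab => key a b hab)
  have hepi : Epi u := by
    have : Epi u.left := inferInstance
    exact (Over.forget _).epi_of_epi_map (inferInstanceAs (Epi u.left))
  have hmonC : IsMonHom ((𝟙 C) ^ n) := Groth.Agent.Grpsch.MulFinFlat.isMonHom_id_pow K C n
  have hvm : IsMonHom v := by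
    have hepi2 : Epi (u ⊗ₘ u) := by
      have h1 : u ⊗ₘ u = (u ▷ C) ≫ (A ◁ u) := by rw [tensorHom_def]
      have h2 : Surjective (u ▷ C).left :=
        MorphismProperty.of_isPullback (P := @Surjective)
          (Groth.Agent.Sga3C.SchemImage.isPullback_whiskerRight_left u C).flip inferInstance
      have h3 : Surjective (A ◁ u).left :=
        MorphismProperty.of_isPullback (P := @Surjective)
          (Groth.Agent.Sga3C.SchemImage.isPullback_whiskerLeft_left u A).flip inferInstance
      have h4 : Flat (u ▷ C).left :=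
        MorphismProperty.of_isPullback (P := @Flat)
          (Groth.Agent.Sga3C.SchemImage.isPullback_whiskerRight_left u C).flip inferInstance
      have h5 : Flat (A ◁ u).left :=
        MorphismProperty.of_isPullback (P := @Flat)
          (Groth.Agent.Sga3C.SchemImage.isPullback_whiskerLeft_left u A).flip inferInstance
      have h6 : QuasiCompact (u ▷ C).left :=
        MorphismProperty.of_isPullback (P := @QuasiCompact)
          (Groth.Agent.Sga3C.SchemImage.isPullback_whiskerRight_left u C).flip inferInstance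
      have h7 : QuasiCompact (A ◁ u).left :=
        MorphismProperty.of_isPullback (P := @QuasiCompact)
          (Groth.Agent.Sga3C.SchemImage.isPullback_whiskerLeft_left u A).flip inferInstance
      have h8 : Epi ((u ▷ C).left ≫ (A ◁ u).left) := inferInstance
      rw [h1]
      exact (Over.forget _).epi_of_epi_map h8
    refine ⟨?_, ?_⟩
    · rw [← IsMonHom.one_hom u, Category.assoc, hv, IsMonHom.one_hom]
    · rw [← cancel_epi (u ⊗ₘ u), ← IsMonHom.mul_hom_assoc, hv, IsMonHom.mul_hom,
        ← Category.assoc, tensorHom_comp_tensorHom, hv]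
  refine ⟨n, v, hn, hvm, hv, ?_⟩
  rw [← cancel_epi u, ← Category.assoc, hv, MonObj.pow_comp, MonObj.comp_pow, Category.id_comp,
    Category.comp_id]

end

end Groth.Agent.Sga7.H756.RevIsog
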