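import Groth.Agent.Sga7.H756.ImgU
import Groth.Agent.Sga7.H756.RevIsog
import Groth.Agent.S0429
import Groth.Agent.S1535
import Groth.Agent.CurvesC.RegNormal
import Groth.Agent.Grpsch.AbBC

/-!
# The model of an abelian variety isogenous to one with a smooth model
-/

set_option autoImplicit false

universe u

open CategoryTheory CategoryTheory.Limits AlgebraicGeometry MonoidalCategory
  CartesianMonoidalCategory MonObj GrpObj

namespace Groth.Agent.Sga7.H756.Model

open Groth.Agent.Sga7.H756.GenBase Groth.Agent.Sga7.H756.NormUP Groth.Agent.Sga7.H756.NormExt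
  Groth.Agent.Sga7.H756.NormModel Groth.Agent.Sga7.H756.IsogAct Groth.Agent.Sga7.H756.FlatN
  Groth.Agent.Sga7.H756.DvrPt Groth.Agent.Sga7.H756.ImgU Groth.Agent.Sga7.H756.RevIsog

section general

variable {S T : Scheme.{u}} (j : T ⟶ S) [QuasiCompact j] [IsSchemeTheoreticallyDominant j]

theorem map_pow_one (f : T ⟶ S) (A : Over S) [GrpObj A] (n : ℕ) :
    (Over.pullback f).map ((𝟙 A : A ⟶ A) ^ n) = (𝟙 (Red.bc f A) : Red.bc f A ⟶ Red.bc f A) ^ n := by
  have h := Groth.Agent.Grpsch.AbBC.map_zpow_one f A (n : ℤ)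
  rw [zpow_natCast] at h
  exact h.trans (zpow_natCast _ _)

theorem map_mul' (f : T ⟶ S) {X Y : Over S} [GrpObj Y] (a b : X ⟶ Y) :
    (Over.pullback f).map (a * b) =
      ((Over.pullback f).map a : Red.bc f X ⟶ Red.bc f Y) * (Over.pullback f).map b :=
  Functor.map_mul _ _ _

/-- Homomorphisms can be recognized on the generic fibre. -/
theorem isMonHom_of_map {X Y : Over S} [GrpObj X] [GrpObj Y] [Flat X.hom] [IsSeparated Y.hom]
    (f : X ⟶ Y) (hf : IsMonHom ((Over.pullback j).map f : Red.bc j X ⟶ Red.bc j Y)) :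
    IsMonHom f := by
  have h0 : Flat (𝟙_ (Over S)).hom := inferInstanceAs (Flat (𝟙 S))
  have h2 : Flat (X ⊗ X : Over S).hom := by
    rw [Over.tensorObj_hom]
    infer_instance
  have key : (fst X X * snd X X) ≫ f = (fst X X ≫ f) * (snd X X ≫ f) := by
    apply ext_of_flat j
    rw [Functor.map_comp, map_mul', map_mul', Functor.map_comp, Functor.map_comp]
    exact MonObj.mul_comp _ _ _
  have e1 : μ[X] = fst X X * snd X X := by
    rw [Hom.mul_def, lift_fst_snd, Category.id_comp]
  refine ⟨?_, ?_⟩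
  · apply ext_of_flat j
    have h1 : ((Over.pullback j).map (1 : 𝟙_ (Over S) ⟶ X) : Red.bc j _ ⟶ Red.bc j X) = 1 :=
      Functor.map_one _
    have h3 : ((Over.pullback j).map (1 : 𝟙_ (Over S) ⟶ Y) : Red.bc j _ ⟶ Red.bc j Y) = 1 :=
      Functor.map_one _
    rw [MonObj.one_eq_one, MonObj.one_eq_one, Functor.map_comp, h1, h3]
    exact MonObj.one_comp _
  · rw [e1, key, Hom.mul_def]
    congr 1

/-- Commutativity can be recognized on the generic fibre. -/
theorem isCommMonObj_of_bc {X : Over S} [GrpObj X] [Flat X.hom] [IsSeparated X.hom]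
    (h : ∀ {Y : Over T} (a b : Y ⟶ Red.bc j X), a * b = b * a) : IsCommMonObj X := by
  have h2 : Flat (X ⊗ X : Over S).hom := by
    rw [Over.tensorObj_hom]
    infer_instance
  have key : fst X X * snd X X = snd X X * fst X X := by
    apply ext_of_flat j
    rw [map_mul', map_mul']
    exact h _ _
  constructor
  rw [Hom.mul_def, Hom.mul_def, lift_fst_snd, Category.id_comp] at key
  have h3 : (β_ X X).hom = lift (snd X X) (fst X X) := by
    apply CartesianMonoidalCategory.hom_ext <;> simp
  rw [h3, ← key]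

end general

section dvr

variable (R K : Type u) [CommRing R] [IsDomain R] [IsDiscreteValuationRing R] [Field K]
  [Algebra R K] [IsFractionRing R K]

variable {G : Over (Spec (CommRingCat.of R))} [GrpObj G] [Smooth G.hom] [IsSeparated G.hom]
  {C A : Over (Spec (CommRingCat.of K))} [GrpObj C] [IsProper C.hom]
  [GeometricallyIntegral C.hom] [GrpObj A] [IsProper A.hom] [GeometricallyIntegral A.hom]

theorem isIntegrallyClosed_stalk_of_abelian (K : Type u) [Field K]
    (A : Over (Spec (CommRingCat.of K))) [GrpObj A] [IsProper A.hom]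
    [GeometricallyIntegral A.hom] (x : A.left) : IsIntegrallyClosed (A.left.presheaf.stalk x) := by
  let _ : A.left.Over (Spec (CommRingCat.of K)) := ⟨A.hom⟩
  have h0 : Smooth A.hom := Groth.Agent.Grpsch.AbBC.smooth_hom A
  have h1 : Smooth (A.left ↘ (Spec (CommRingCat.of K))) := h0
  have h2 : IsRegularLocalRing (A.left.presheaf.stalk x) := Groth.Agent.S1535.result K A.left x
  exact Groth.Agent.CurvesC.RegNormal.isIntegrallyClosed _

/-- Existence of a smooth model of an isogenous abelian variety. -/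
theorem exists_model (e : Red.bc (jK R K) G ≅ C) [IsMonHom e.hom] (u : C ⟶ A) (v : A ⟶ C)
    [IsMonHom u] [IsMonHom v] (n : ℕ) (hn : 1 ≤ n) (huv : u ≫ v = (𝟙 C) ^ n)
    (hvu : v ≫ u = (𝟙 A) ^ n) (hflat : Flat ((𝟙 G : G ⟶ G) ^ n).left) :
    ∃ (W : Over (Spec (CommRingCat.of R))) (_ : GrpObj W) (eW : Red.bc (jK R K) W ≅ A)
      (p : G ⟶ W) (q : W ⟶ G), IsMonHom eW.hom ∧ Smooth W.hom ∧ IsSeparated W.hom ∧
      Surjective p.left ∧ IsMonHom q ∧ p ≫ q = (𝟙 G) ^ n := by
  have hj : IsIso (jK R K).fromNormalization := isIso_fromNormalization_jK R K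
  obtain ⟨hC1, hC2, hC3⟩ := Groth.Agent.Grpsch.MulFinFlat.isFinite_flat_surjective K C n hn
  obtain ⟨hA1, hA2, hA3⟩ := Groth.Agent.Grpsch.MulFinFlat.isFinite_flat_surjective K A n hn
  rw [← huv, Over.comp_left] at hC1 hC3
  rw [← hvu, Over.comp_left] at hA1 hA3
  have hus : Surjective u.left := Surjective.of_comp v.left u.left
  have hvs : Surjective v.left := Surjective.of_comp u.left v.left
  have hsepu : IsSeparated u.left := by
    have h : IsSeparated (u.left ≫ A.hom) := by rw [Over.w]; infer_instance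
    exact IsSeparated.of_comp u.left A.hom
  have hvf : IsFinite v.left := IsFinite.of_comp v.left u.left
  have huf : Flat u.left := flat_left K u
  have hAi : IsIntegral A.left := isIntegral_left K A
  have hCi : IsIntegral C.left := isIntegral_left K C
  have heiso : IsIso e.hom.left := inferInstanceAs (IsIso ((Over.forget _).map e.hom))
  have heiso' : IsIso e.inv.left := inferInstanceAs (IsIso ((Over.forget _).map e.inv))
  have hGK : IsIntegral ((Over.pullback (jK R K)).obj G).left := by
    have : Nonempty ((Over.pullback (jK R K)).obj G).left := by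
      obtain ⟨x⟩ : Nonempty C.left := inferInstance
      exact ⟨e.inv.left x⟩
    exact isIntegral_of_isOpenImmersion e.hom.left
  have hG : IsIntegral G.left := isIntegral_of_bcι (jK R K) G
  let u' : Red.bc (jK R K) G ⟶ A := e.hom ≫ u
  let v' : A ⟶ Red.bc (jK R K) G := v ≫ e.inv
  have hu'm : IsMonHom u' := inferInstanceAs (IsMonHom (e.hom ≫ u))
  have hv'm : IsMonHom v' := inferInstanceAs (IsMonHom (v ≫ e.inv))
  have hu's : Surjective u'.left := inferInstanceAs (Surjective (e.hom.left ≫ u.left))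
  have hv's : Surjective v'.left := inferInstanceAs (Surjective (v.left ≫ e.inv.left))
  have hu'f : Flat u'.left := inferInstanceAs (Flat (e.hom.left ≫ u.left))
  have hv'f : IsFinite v'.left := inferInstanceAs (IsFinite (v.left ≫ e.inv.left))
  have huv' : u' ≫ v' = (Over.pullback (jK R K)).map ((𝟙 G) ^ n) := by
    rw [map_pow_one]
    change (e.hom ≫ u) ≫ v ≫ e.inv = _
    rw [Category.assoc, ← Category.assoc u, huv, MonObj.pow_comp, Category.id_comp,
      MonObj.comp_pow, Iso.hom_inv_id]
  obtain ⟨uN, h1, h2⟩ := exists_uN (jK R K) u' v' ((𝟙 G) ^ n) huv' hj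
  have hfl : Flat uN.left := flat_uN R K v' u' uN h2
    (isIntegrallyClosed_stalk_of_abelian K A) ((𝟙 G) ^ n) h1 huv'
  have hlft : LocallyOfFiniteType uN.left := by
    have h3 : LocallyOfFiniteType (((𝟙 G : G ⟶ G) ^ n).left ≫ G.hom) := by
      rw [Over.w]; infer_instance
    have h4 : LocallyOfFiniteType ((𝟙 G : G ⟶ G) ^ n).left := locallyOfFiniteType_of_comp _ G.hom
    rw [← h1, Over.comp_left] at h4
    exact locallyOfFiniteType_of_comp uN.left (νO _ v').left
  have hlfp : LocallyOfFinitePresentation uN.left := Groth.Agent.S0429.result uN.left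
  obtain ⟨gW, hgW⟩ := exists_grpObj (jK R K) v' u' uN h2 hj
  have hWs : Smooth (img uN).hom := smooth_img uN
  let w : img uN ⟶ G := imgι uN ≫ νO _ v'
  refine ⟨img uN, gW, eW (jK R K) v' u' uN h2, toImg uN, w, hgW, hWs, inferInstance,
    inferInstance, ?_, ?_⟩
  · apply isMonHom_of_map (jK R K)
    have h5 : (Over.pullback (jK R K)).map w = (eW (jK R K) v' u' uN h2).hom ≫ v' :=
      (eW_comp (jK R K) v' u' uN h2).symm
    rw [h5]
    exact inferInstanceAs (IsMonHom ((eW (jK R K) v' u' uN h2).hom ≫ v'))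
  · change toImg uN ≫ imgι uN ≫ νO _ v' = _
    rw [toImg_imgι_assoc, h1]

end dvr

end Groth.Agent.Sga7.H756.Model
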