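import Mathlib.AlgebraicGeometry.Morphisms.SchemeTheoreticallyDominant
import Mathlib.AlgebraicGeometry.Morphisms.ClosedImmersion
import Mathlib.AlgebraicGeometry.Morphisms.Separated
import Mathlib.AlgebraicGeometry.Morphisms.Flat
import Mathlib.AlgebraicGeometry.Morphisms.Smooth
import Mathlib.AlgebraicGeometry.Normalization
import Mathlib.CategoryTheory.Comma.Over.Pullback

/-!
# Restriction to a schematically dense open of the base

`j : T ⟶ S` is a quasi-compact schematically dominant morphism (in the applications: the generic
point of the spectrum of a discrete valuation ring). `bcι j X : (Over.pullback j).obj X ⟶ X` is the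
inclusion of the restriction of the `S`-scheme `X` to `T`.
-/

set_option autoImplicit false

universe u

open CategoryTheory CategoryTheory.Limits AlgebraicGeometry

namespace Groth.Agent.Sga7.H756.GenBase

variable {S T : Scheme.{u}} (j : T ⟶ S)

/-- The projection from the base change of `X` along `j` to `X`. -/
noncomputable def bcι (X : Over S) : ((Over.pullback j).obj X).left ⟶ X.left :=
  pullback.fst X.hom j

theorem isPullback_bcι (X : Over S) :
    IsPullback (bcι j X) ((Over.pullback j).obj X).hom X.hom j :=
  IsPullback.of_hasPullback X.hom j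

@[reassoc]
theorem bcι_naturality {X Y : Over S} (g : X ⟶ Y) :
    ((Over.pullback j).map g).left ≫ bcι j Y = bcι j X ≫ g.left :=
  pullback.lift_fst _ _ _

theorem isPullback_map {X Y : Over S} (g : X ⟶ Y) :
    IsPullback ((Over.pullback j).map g).left (bcι j X) (bcι j Y) g.left := by
  have h1 : IsPullback ((Over.pullback j).obj Y).hom (bcι j Y) j Y.hom := (isPullback_bcι j Y).flip
  refine IsPullback.of_right ?_ (bcι_naturality j g) h1
  have h2 : ((Over.pullback j).map g).left ≫ ((Over.pullback j).obj Y).hom =
      ((Over.pullback j).obj X).hom := Over.w _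
  rw [h2, Over.w]
  exact (isPullback_bcι j X).flip

instance [IsOpenImmersion j] (X : Over S) : IsOpenImmersion (bcι j X) :=
  MorphismProperty.of_isPullback (isPullback_bcι j X).flip inferInstance

instance [QuasiCompact j] (X : Over S) : QuasiCompact (bcι j X) :=
  MorphismProperty.of_isPullback (isPullback_bcι j X).flip inferInstance

instance isSchemeTheoreticallyDominant_bcι [QuasiCompact j] [IsSchemeTheoreticallyDominant j]
    (X : Over S) [Flat X.hom] : IsSchemeTheoreticallyDominant (bcι j X) :=
  IsSchemeTheoreticallyDominant.of_isPullback (isPullback_bcι j X).flip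

/-- Morphisms into a separated `S`-scheme from an `S`-scheme whose restriction to `T` is
schematically dense are determined by their restriction to `T`. -/
theorem ext_of_dominant {X Y : Over S} [IsSchemeTheoreticallyDominant (bcι j X)]
    [IsSeparated Y.hom] {f g : X ⟶ Y}
    (h : (Over.pullback j).map f = (Over.pullback j).map g) : f = g := by
  let i : Over.mk (bcι j X ≫ X.hom) ⟶ X := Over.homMk (bcι j X) rfl
  have h2 : i ≫ f = i ≫ g := by
    ext1
    change bcι j X ≫ f.left = bcι j X ≫ g.left
    rw [← bcι_naturality, ← bcι_naturality, h]
  let t := equalizer.lift i h2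
  have h3 : t.left ≫ (equalizer.ι f g).left = bcι j X := by
    rw [← Over.comp_left, equalizer.lift_ι]
    rfl
  have h4 : (equalizer.ι f g).left.ker = ⊥ := by
    have h5 := t.left.le_ker_comp (equalizer.ι f g).left
    rw [h3, (bcι j X).ker_eq_bot] at h5
    exact le_bot_iff.mp h5
  have h5 : IsIso (equalizer.ι f g).left := IsClosedImmersion.isIso_iff_ker_eq_bot.mpr h4
  ext1
  rw [← cancel_epi (equalizer.ι f g).left]
  exact congr($(equalizer.condition f g).left)

theorem ext_of_flat [QuasiCompact j] [IsSchemeTheoreticallyDominant j] {X Y : Over S}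
    [Flat X.hom] [IsSeparated Y.hom] {f g : X ⟶ Y}
    (h : (Over.pullback j).map f = (Over.pullback j).map g) : f = g :=
  ext_of_dominant j h

end Groth.Agent.Sga7.H756.GenBase
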