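import Groth.Agent.Sga7.H274.GoodSemi
import Groth.Agent.Sga7.H760.L2
import Groth.Agent.Sga7.H756.GenBase
import Mathlib.AlgebraicGeometry.Morphisms.QuasiFinite

/-!
# Quasi-finite homomorphisms and unipotent rank zero
-/

set_option autoImplicit false

universe u

open CategoryTheory CategoryTheory.Limits AlgebraicGeometry MonoidalCategory
  CartesianMonoidalCategory MonObj GrpObj
open scoped Polynomial

namespace Groth.Agent.Sga7.H756.QFRank

open Groth.Agent.Sga3B Groth.Agent.Sga3B.RootHomDict Groth.Agent.Sga3B.AffPts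

theorem lqf_of_surjective {X Y Z : Scheme.{u}} (p : X ⟶ Y) (q : Y ⟶ Z) [Surjective p]
    [LocallyOfFiniteType q] [LocallyQuasiFinite (p ≫ q)] [QuasiCompact (p ≫ q)] :
    LocallyQuasiFinite q := by
  refine LocallyQuasiFinite.of_finite_preimage_singleton q fun z => ?_
  have h1 : ((p ≫ q) ⁻¹' {z}).Finite := (p ≫ q).finite_preimage_singleton z
  refine (h1.image p).subset ?_
  intro y hy
  obtain ⟨x, rfl⟩ := p.surjective y
  refine ⟨x, ?_, rfl⟩
  rw [Set.mem_preimage, Scheme.Hom.comp_apply]
  exact hy

theorem not_lqf_ga (k : Type u) [Field k] :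
    ¬ LocallyQuasiFinite (Red.Ga (Spec (CommRingCat.of k))).hom := by
  intro h
  have h1 : (gaFrom (R := k)).left ≫ (Red.Ga (Spec (CommRingCat.of k))).hom =
      Spec.map (CommRingCat.ofHom (algebraMap k k[X])) := Over.w (gaFrom (R := k))
  have : IsIso (gaFrom (R := k)) := ⟨gaTo, gaFrom_gaTo, gaTo_gaFrom⟩
  have h2 : LocallyQuasiFinite (Spec.map (CommRingCat.ofHom (algebraMap k k[X]))) := by
    rw [← h1]
    have h6 : IsIso (gaFrom (R := k)).left :=
      inferInstanceAs (IsIso ((Over.forget _).map (gaFrom (R := k))))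
    exact MorphismProperty.comp_mem _ _ _ inferInstance h
  have h00 : IsLocallyArtinian (Spec (CommRingCat.of k)) := by
    have : IsArtinianRing (CommRingCat.of k) := inferInstanceAs (IsArtinianRing k)
    infer_instance
  have h3 : IsFinite (Spec.map (CommRingCat.ofHom (algebraMap k k[X]))) :=
    IsFinite.of_locallyQuasiFinite _
  rw [IsFinite.SpecMap_iff] at h3
  have h4 : Module.Finite k k[X] := RingHom.finite_algebraMap.1 h3
  have h5 : IsIntegral k (Polynomial.X : k[X]) := Algebra.IsIntegral.isIntegral _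
  exact Polynomial.transcendental_X k h5.isAlgebraic

attribute [local instance] Functor.grpObjObj

/-- Unipotent rank zero ascends along locally quasi-finite homomorphisms. -/
theorem rankZero_of_lqf {S : Scheme.{u}} {W G : Over S} [GrpObj W] [GrpObj G]
    [LocallyOfFiniteType G.hom] (q : W ⟶ G) [IsMonHom q] [LocallyQuasiFinite q.left] (s : S)
    (h : SGA7.FibreUnipotentRankZero s G) : SGA7.FibreUnipotentRankZero s W := by
  intro j hj hcl
  let q' : Red.geomFibre s W ⟶ Red.geomFibre s G := (Over.pullback (Red.geomPt s)).map q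
  have hq' : IsMonHom q' := inferInstanceAs (IsMonHom ((Over.pullback (Red.geomPt s)).map q))
  have hlqf : LocallyQuasiFinite q'.left :=
    MorphismProperty.of_isPullback (P := @LocallyQuasiFinite)
      (Groth.Agent.Sga7.H756.GenBase.isPullback_map (Red.geomPt s) q).flip ‹_›
  have hlft : LocallyOfFiniteType (Red.geomFibre s G).hom := by
    change LocallyOfFiniteType (pullback.snd G.hom (Red.geomPt s))
    infer_instance
  by_cases hjq : j ≫ q' = 1
  · have h1 : LocallyQuasiFinite (j ≫ q').left := by
      rw [Over.comp_left]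
      infer_instance
    rw [hjq, Hom.one_def, Over.comp_left] at h1
    exact not_lqf_ga _ (@LocallyQuasiFinite.of_comp _ _ _ _ _ h1)
  · obtain ⟨j', hj', hcl'⟩ := Groth.Agent.Sga7.H760.L2 _ _ (j ≫ q') hjq
    exact h j' hj' hcl'

end Groth.Agent.Sga7.H756.QFRank
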