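import Groth.Agent.Etcore.SmoothRed
import Groth.Agent.CycB.FiberKer
import Groth.Agent.Divis.CartierAlg
import Mathlib.RingTheory.Flat.FaithfullyFlat.Algebra
import Mathlib.RingTheory.Flat.TorsionFree
import Mathlib.AlgebraicGeometry.Morphisms.Flat
import Mathlib.RingTheory.DedekindDomain.Dvr

/-!
# Points at which the maximal ideal is generated by the maximal ideal of the base

`IsGenAt f x`: the maximal ideal of `O_{X,x}` is generated by the maximal ideal of `O_{Y,f(x)}`.
-/

set_option autoImplicit false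

universe u

open CategoryTheory CategoryTheory.Limits AlgebraicGeometry IsLocalRing

namespace Groth.Agent.Sga7.H756.GenPt

variable {X Y Z : Scheme.{u}}

/-- The maximal ideal of `O_{X,x}` is generated by the maximal ideal of `O_{Y,f(x)}`. -/
def IsGenAt (f : X ⟶ Y) (x : X) : Prop :=
  Ideal.map (f.stalkMap x).hom (maximalIdeal (Y.presheaf.stalk (f x))) =
    maximalIdeal (X.presheaf.stalk x)

theorem isGenAt_fiberι (f : X ⟶ Y) (y : Y) (z : f.fiber y)
    (h : IsField ((f.fiber y).presheaf.stalk z)) : IsGenAt f (f.fiberι y z) := by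
  unfold IsGenAt
  rw [← Groth.Agent.CycB.FiberKer.ker_stalkMap_fiberι]
  apply le_antisymm
  · exact le_maximalIdeal (RingHom.ker_ne_top _)
  · intro a ha
    have h1 : ((f.fiberι y).stalkMap z) a ∈ maximalIdeal ((f.fiber y).presheaf.stalk z) := by
      rw [mem_maximalIdeal, mem_nonunits_iff] at ha ⊢
      exact fun h => ha (isUnit_of_map_unit ((f.fiberι y).stalkMap z).hom a h)
    rw [isField_iff_maximalIdeal_eq.1 h] at h1
    exact h1

/-- Existence of points of this kind on smooth schemes. -/
theorem exists_isGenAt (f : X ⟶ Y) [Smooth f] (y : Y) (hy : y ∈ Set.range f) :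
    ∃ x : X, f x = y ∧ IsGenAt f x := by
  have hsm : Smooth (f.fiberToSpecResidueField y) :=
    inferInstanceAs (Smooth (pullback.snd f (Y.fromSpecResidueField y)))
  have hred : IsReduced (f.fiber y) :=
    Groth.Agent.Etcore.SmoothRed.isReduced_of_smooth (f.fiberToSpecResidueField y)
  obtain ⟨x₀, hx₀⟩ := hy
  obtain ⟨z₀, -⟩ := Groth.Agent.CycB.FiberKer.exists_fiberι_eq f y x₀ hx₀
  have hne : Nonempty (f.fiber y) := ⟨z₀⟩
  let Z := irreducibleComponent z₀
  have hZ : IsIrreducible Z := isIrreducible_irreducibleComponent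
  have hZc : IsClosed Z := isClosed_irreducibleComponent
  obtain ⟨z, hz⟩ := QuasiSober.sober hZ hZc
  have h1 : closure {z} ∈ irreducibleComponents (f.fiber y) := by
    rw [hz.def]
    exact irreducibleComponent_mem_irreducibleComponents z₀
  exact ⟨f.fiberι y z, Groth.Agent.CycB.FiberKer.apply_fiberι f y z, isGenAt_fiberι f y z
    (isField_stalk_of_closure_mem_irreducibleComponents _ z h1)⟩

/-- Descent along flat morphisms. -/
theorem IsGenAt.of_comp (f : X ⟶ Y) (g : Y ⟶ Z) [Flat f] {x : X} (h : IsGenAt (f ≫ g) x) :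
    IsGenAt g (f x) := by
  have hle : Ideal.map (g.stalkMap (f x)).hom (maximalIdeal (Z.presheaf.stalk (g (f x)))) ≤
      maximalIdeal (Y.presheaf.stalk (f x)) := Groth.Agent.CycB.FiberKer.map_maximalIdeal_le g (f x)
  have hle2 : Ideal.map (f.stalkMap x).hom (maximalIdeal (Y.presheaf.stalk (f x))) ≤
      maximalIdeal (X.presheaf.stalk x) := Groth.Agent.CycB.FiberKer.map_maximalIdeal_le f x
  have h1 : Ideal.map (f.stalkMap x).hom (Ideal.map (g.stalkMap (f x)).hom
      (maximalIdeal (Z.presheaf.stalk (g (f x))))) = maximalIdeal (X.presheaf.stalk x) := by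
    rw [Ideal.map_map, ← CommRingCat.hom_comp, ← Scheme.Hom.stalkMap_comp]
    exact h
  let _ := (f.stalkMap x).hom.toAlgebra
  have hfl : Module.Flat (Y.presheaf.stalk (f x)) (X.presheaf.stalk x) := Flat.stalkMap f x
  have hloc : IsLocalHom (algebraMap (Y.presheaf.stalk (f x)) (X.presheaf.stalk x)) :=
    inferInstanceAs (IsLocalHom (f.stalkMap x).hom)
  have hff : Module.FaithfullyFlat (Y.presheaf.stalk (f x)) (X.presheaf.stalk x) :=
    Module.FaithfullyFlat.of_flat_of_isLocalHom
  have h2 : Ideal.map (algebraMap (Y.presheaf.stalk (f x)) (X.presheaf.stalk x))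
      (Ideal.map (g.stalkMap (f x)).hom (maximalIdeal (Z.presheaf.stalk (g (f x))))) =
      Ideal.map (algebraMap (Y.presheaf.stalk (f x)) (X.presheaf.stalk x))
      (maximalIdeal (Y.presheaf.stalk (f x))) := by
    apply le_antisymm (Ideal.map_mono hle)
    exact hle2.trans h1.ge
  have h3 := congrArg (Ideal.comap (algebraMap (Y.presheaf.stalk (f x)) (X.presheaf.stalk x))) h2
  rwa [Ideal.comap_map_eq_self_of_faithfullyFlat, Ideal.comap_map_eq_self_of_faithfullyFlat] at h3

theorem IsGenAt.of_w {f : X ⟶ Y} {g : Y ⟶ Z} {h : X ⟶ Z} (w : f ≫ g = h) [Flat f] {x : X}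
    (hx : IsGenAt h x) : IsGenAt g (f x) := by
  subst w
  exact hx.of_comp

/-- Over the spectrum of a discrete valuation ring these are the points with local ring a discrete
valuation ring. -/
theorem exists_isDVR {R : Type u} [CommRing R] [IsDomain R] [IsDiscreteValuationRing R]
    (f : X ⟶ Spec (CommRingCat.of R)) [Flat f] [IsLocallyNoetherian X] {x : X}
    (hx : f x = closedPoint R) (h : IsGenAt f x) :
    ∃ _ : IsDomain (X.presheaf.stalk x), IsDiscreteValuationRing (X.presheaf.stalk x) := by
  have hne : (f x).asIdeal ≠ ⊥ := by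
    rw [hx]
    exact IsDiscreteValuationRing.not_a_field R
  have hprime : (f x).asIdeal.IsPrime := (f x).isPrime
  let _ : Algebra R ((Spec (CommRingCat.of R)).presheaf.stalk (f x)) :=
    StructureSheaf.stalkAlgebra R (f x)
  have h1 : IsLocalization.AtPrime ((Spec (CommRingCat.of R)).presheaf.stalk (f x))
      (f x).asIdeal := StructureSheaf.IsLocalization.to_stalk R (f x)
  have hdom : IsDomain ((Spec (CommRingCat.of R)).presheaf.stalk (f x)) :=
    IsLocalization.isDomain_of_atPrime _ (f x).asIdeal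
  have hdvr : IsDiscreteValuationRing ((Spec (CommRingCat.of R)).presheaf.stalk (f x)) :=
    IsLocalization.AtPrime.isDiscreteValuationRing_of_dedekind_domain R hne _
  obtain ⟨ϖ, hϖ⟩ := IsDiscreteValuationRing.exists_irreducible
    ((Spec (CommRingCat.of R)).presheaf.stalk (f x))
  refine Groth.Agent.Divis.CartierAlg.dvr_of_maximalIdeal_eq_span ((f.stalkMap x) ϖ) ?_ ?_
  · let _ := (f.stalkMap x).hom.toAlgebra
    have hfl : Module.Flat ((Spec (CommRingCat.of R)).presheaf.stalk (f x))
      (X.presheaf.stalk x) := Flat.stalkMap f x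
    have h2 := Module.Flat.isSMulRegular_of_nonZeroDivisors (M := X.presheaf.stalk x)
      (mem_nonZeroDivisors_of_ne_zero hϖ.ne_zero)
    rw [mem_nonZeroDivisors_iff_right]
    intro a ha
    apply h2
    change ϖ • a = ϖ • (0 : X.presheaf.stalk x)
    rw [Algebra.smul_def, smul_zero, mul_comm]
    exact ha
  · rw [← h, hϖ.maximalIdeal_eq, Ideal.map_span, Set.image_singleton]

end Groth.Agent.Sga7.H756.GenPt
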