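import Mathlib.RingTheory.DiscreteValuationRing.Basic
import Mathlib.RingTheory.Flat.TorsionFree
import Mathlib.RingTheory.RingHom.Flat
import Mathlib.RingTheory.Localization.Integral
import Mathlib.RingTheory.IntegralClosure.IntegrallyClosed
import Mathlib.RingTheory.Valuation.ValuationRing

/-!
# Integrally closed local domains algebraic over a discrete valuation ring are valuation rings
-/

set_option autoImplicit false

open Polynomial

namespace Groth.Agent.Sga7.H756.ValRing

/-- Let `B` be an integrally closed local domain and `x` an element of its fraction field which is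
a root of a polynomial over `B` with a unit among its coefficients.  Then `x ∈ B` or `x⁻¹ ∈ B`. -/
theorem isInteger_or_isInteger {B L : Type*} [CommRing B] [IsDomain B] [IsLocalRing B]
    [IsIntegrallyClosed B] [Field L] [Algebra B L] [IsFractionRing B L] (x : L) (n : ℕ) :
    ∀ (p : B[X]), p.natDegree ≤ n → aeval x p = 0 → (∃ k, IsUnit (p.coeff k)) →
      IsLocalization.IsInteger B x ∨ IsLocalization.IsInteger B x⁻¹ := by
  induction n with
  | zero =>
    rintro p hp h0 ⟨k, hk⟩
    exfalso
    have h1 : p = C (p.coeff 0) := eq_C_of_natDegree_le_zero hp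
    have hk0 : k = 0 := by
      by_contra hne
      rw [h1, coeff_C_of_ne_zero hne] at hk
      exact not_isUnit_zero hk
    subst hk0
    rw [h1, aeval_C] at h0
    have h2 := hk.map (algebraMap B L)
    rw [h0] at h2
    exact not_isUnit_zero h2
  | succ n ih =>
    rintro p hp h0 ⟨k, hk⟩
    by_cases hdeg : p.natDegree ≤ n
    · exact ih p hdeg h0 ⟨k, hk⟩
    have hdeg' : p.natDegree = n + 1 := by omega
    obtain ⟨y, hy⟩ : ∃ y : B, algebraMap B L y = p.coeff (n + 1) • x := by
      have h1 := isIntegral_leadingCoeff_smul p x h0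
      rw [leadingCoeff, hdeg'] at h1
      exact IsIntegrallyClosed.algebraMap_eq_of_integral h1
    rw [Algebra.smul_def] at hy
    by_cases hyu : IsUnit y
    · right
      have hyL := hyu.map (algebraMap B L)
      obtain ⟨w, rfl⟩ := hyu
      refine ⟨p.coeff (n + 1) * ↑w⁻¹, ?_⟩
      have hx : x ≠ 0 := by
        rintro rfl
        rw [hy, mul_zero] at hyL
        exact not_isUnit_zero hyL
      rw [eq_comm, inv_eq_iff_eq_inv, eq_comm, inv_eq_of_mul_eq_one_right]
      rw [map_mul, mul_right_comm, ← hy, ← map_mul, Units.mul_inv, map_one]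
    by_cases hku : k = n + 1
    · left
      subst hku
      obtain ⟨w, hw⟩ := hk
      refine ⟨↑w⁻¹ * y, ?_⟩
      rw [map_mul, hy, ← mul_assoc, ← map_mul, ← hw, Units.inv_mul, map_one, one_mul]
    let q : B[X] := p - monomial (n + 1) (p.coeff (n + 1)) + monomial n y
    have hq0 : aeval x q = 0 := by
      simp only [q, map_add, map_sub, h0, aeval_monomial, hy]
      ring
    have hqc : ∀ m, q.coeff m = p.coeff m - (if n + 1 = m then p.coeff (n + 1) else 0) +
        (if n = m then y else 0) := by
      intro m
      simp only [q, coeff_add, coeff_sub, coeff_monomial]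
    have hqd : q.natDegree ≤ n := by
      rw [natDegree_le_iff_coeff_eq_zero]
      intro m hm
      rw [hqc, if_neg (show n ≠ m by omega), add_zero]
      by_cases hm' : n + 1 = m
      · rw [if_pos hm', hm', sub_self]
      · rw [if_neg hm', sub_zero]
        exact coeff_eq_zero_of_natDegree_lt (by omega)
    refine ih q hqd hq0 ⟨k, ?_⟩
    rw [hqc, if_neg (fun h => hku h.symm), sub_zero]
    by_cases hkn : n = k
    · rw [if_pos hkn]
      have h1 : IsUnit ((p.coeff k + y) + (-y)) := by rwa [add_neg_cancel_right]
      refine (IsLocalRing.isUnit_or_isUnit_of_isUnit_add h1).resolve_right ?_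
      rwa [IsUnit.neg_iff]
    · rw [if_neg hkn, add_zero]
      exact hk

theorem exists_min_coeff {D : Type*} [CommRing D] [IsDomain D] [IsDiscreteValuationRing D]
    (p : D[X]) (hp : p ≠ 0) : ∃ (c : D) (q : D[X]), c ≠ 0 ∧ p = C c * q ∧ ∃ k, q.coeff k = 1 := by
  have hne : p.support.Nonempty := by rwa [Polynomial.nonempty_support_iff]
  obtain ⟨k, hk, hmin⟩ := p.support.exists_min_image
    (fun i => IsDiscreteValuationRing.addVal D (p.coeff i)) hne
  have hck : p.coeff k ≠ 0 := mem_support_iff.1 hk
  have hdvd : ∀ i, p.coeff k ∣ p.coeff i := by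
    intro i
    by_cases hi : i ∈ p.support
    · exact IsDiscreteValuationRing.addVal_le_iff_dvd.1 (hmin i hi)
    · rw [notMem_support_iff.1 hi]
      exact dvd_zero _
  obtain ⟨q, hq⟩ := (C_dvd_iff_dvd_coeff _ _).2 hdvd
  refine ⟨p.coeff k, q, hck, hq, k, ?_⟩
  have h1 := congrArg (fun r => r.coeff k) hq
  simp only [coeff_C_mul] at h1
  exact mul_left_cancel₀ hck (by rw [← h1, mul_one])

theorem valuationRing_of_isAlgebraic {D B : Type*} [CommRing D] [IsDomain D]
    [IsDiscreteValuationRing D] [CommRing B] [IsDomain B] [IsLocalRing B] [IsIntegrallyClosed B]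
    [Algebra D B] (hinj : Function.Injective (algebraMap D B))
    (L : Type*) [Field L] [Algebra B L] [IsFractionRing B L] [Algebra D L] [IsScalarTower D B L]
    [Algebra.IsAlgebraic D L] : ValuationRing B := by
  rw [ValuationRing.iff_isInteger_or_isInteger B L]
  intro x
  obtain ⟨p, hp, hpx⟩ := Algebra.IsAlgebraic.isAlgebraic (R := D) x
  obtain ⟨c, q, hc, rfl, k, hk⟩ := exists_min_coeff p hp
  have hqx : aeval x q = 0 := by
    rw [map_mul, aeval_C] at hpx
    refine (mul_eq_zero.1 hpx).resolve_left ?_
    rw [IsScalarTower.algebraMap_apply D B L]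
    intro h
    apply hc
    apply hinj
    rw [map_zero]
    exact IsFractionRing.injective B L (by rw [h, map_zero])
  refine isInteger_or_isInteger x q.natDegree (q.map (algebraMap D B)) natDegree_map_le ?_
    ⟨k, ?_⟩
  · rw [aeval_map_algebraMap, hqx]
  · rw [coeff_map, hk, map_one]
    exact isUnit_one

/-- Torsion-free extensions of valuation rings are flat. -/
theorem flat_of_injective {B D : Type*} [CommRing B] [IsDomain B] [ValuationRing B] [CommRing D]
    [IsDomain D] (φ : B →+* D) (hφ : Function.Injective φ) : φ.Flat := by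
  algebraize [φ]
  change Module.Flat B D
  rw [Module.Flat.flat_iff_torsion_eq_bot_of_isBezout, ← Submodule.isTorsionFree_iff_torsion_eq_bot]
  have : FaithfulSMul B D := (faithfulSMul_iff_algebraMap_injective B D).2 hφ
  infer_instance

end Groth.Agent.Sga7.H756.ValRing
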