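import Groth.Agent.CurvesA.NormFinite
import Groth.Agent.Ega3B.NormalBirational
import Groth.Agent.Sga7.H756.ValRing
import Mathlib.AlgebraicGeometry.Morphisms.SchemeTheoreticallyDominant
import Mathlib.AlgebraicGeometry.Morphisms.Integral

/-!
# Local rings of relative normalizations
-/

set_option autoImplicit false

universe u

open CategoryTheory CategoryTheory.Limits AlgebraicGeometry

namespace Groth.Agent.Sga7.H756.NormStalk

/-- A dominant morphism of integral schemes is injective on local rings. -/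
theorem stalkMap_injective {X Y : Scheme.{u}} [IsIntegral X] [IsIntegral Y] (f : X ⟶ Y)
    [IsDominant f] (x : X) : Function.Injective (f.stalkMap x) := by
  rw [injective_iff_map_eq_zero]
  intro a ha
  obtain ⟨U, hxU, s, rfl⟩ := Y.presheaf.exists_germ_eq a
  have h1 : X.presheaf.germ (f ⁻¹ᵁ U) x hxU (f.app U s) = 0 := by
    rw [← ha]
    exact (ConcreteCategory.congr_hom (f.germ_stalkMap U x hxU) s).symm
  have h2 : f.app U s = 0 := germ_injective_of_isIntegral X x hxU (by rw [h1, map_zero])
  have h3 : Y.basicOpen s = ⊥ := by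
    have h4 : f ⁻¹ᵁ Y.basicOpen s = ⊥ := by
      rw [Scheme.preimage_basicOpen, h2, Scheme.basicOpen_zero]
    by_contra hne
    obtain ⟨y, hy⟩ : ((Y.basicOpen s : Y.Opens) : Set Y).Nonempty := by
      rw [Set.nonempty_iff_ne_empty]
      intro he
      exact hne (TopologicalSpace.Opens.ext he)
    obtain ⟨z, hz2⟩ := f.denseRange.exists_mem_open (Y.basicOpen s).2 ⟨y, hy⟩
    have h5 : z ∈ f ⁻¹ᵁ Y.basicOpen s := hz2
    rw [h4] at h5
    exact h5
  rw [basicOpen_eq_bot_iff] at h3
  rw [h3, map_zero]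

/-- The local rings of the normalization of a scheme in a normal integral scheme. -/
theorem isIntegrallyClosed_stalk {X Y : Scheme.{u}} (f : X ⟶ Y) [IsAffineHom f] [IsIntegral X]
    (hX : ∀ x : X, IsIntegrallyClosed (X.presheaf.stalk x)) (z : f.normalization) :
    IsIntegrallyClosed (f.normalization.presheaf.stalk z) := by
  obtain ⟨U, hU, hzU, -⟩ := exists_isAffineOpen_mem_and_subset
    (x := f.fromNormalization z) (U := ⊤) trivial
  let V := f.fromNormalization ⁻¹ᵁ U
  have hV : IsAffineOpen V := hU.preimage _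
  have hzV : z ∈ V := hzU
  have hne : Nonempty V := ⟨⟨z, hzV⟩⟩
  have hW : IsAffineOpen (f.toNormalization ⁻¹ᵁ V) := hV.preimage _
  have hneW : Nonempty (f.toNormalization ⁻¹ᵁ V : X.Opens) := by
    obtain ⟨w, hw⟩ := f.toNormalization.denseRange.exists_mem_open V.2 ⟨z, hzV⟩
    exact ⟨⟨w, hw⟩⟩
  have h1 : IsIntegrallyClosed Γ(X, f.toNormalization ⁻¹ᵁ V) :=
    Groth.Agent.Ega3B.NormalBirational.isIntegrallyClosed_section hX _ hW
  let a1 : Algebra Γ(f.normalization, V) Γ(X, f.toNormalization ⁻¹ᵁ V) :=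
    (f.toNormalization.app V).hom.toAlgebra
  have h2 : IsIntegrallyClosedIn Γ(f.normalization, V) Γ(X, f.toNormalization ⁻¹ᵁ V) :=
    Groth.Agent.CurvesA.NormFinite.isIntegrallyClosedIn_toNormalization f U hU
  have h3 : Function.Injective (algebraMap Γ(f.normalization, V) Γ(X, f.toNormalization ⁻¹ᵁ V)) :=
    (isIntegrallyClosedIn_iff.1 h2).1
  have h4 : FaithfulSMul Γ(f.normalization, V) Γ(X, f.toNormalization ⁻¹ᵁ V) :=
    (faithfulSMul_iff_algebraMap_injective _ _).2 h3
  have h5 : IsIntegrallyClosed Γ(f.normalization, V) :=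
    IsIntegrallyClosed.of_isIntegrallyClosed_of_isIntegrallyClosedIn _ Γ(X, f.toNormalization ⁻¹ᵁ V)
  let _ := TopCat.Presheaf.algebra_section_stalk f.normalization.presheaf ⟨z, hzV⟩
  have h6 := hV.isLocalization_stalk ⟨z, hzV⟩
  exact isIntegrallyClosed_of_isLocalization (R := Γ(f.normalization, V))
    (f.normalization.presheaf.stalk z) (hV.primeIdealOf ⟨z, hzV⟩).asIdeal.primeCompl
    (Ideal.primeCompl_le_nonZeroDivisors _)

/-- An integrally closed local ring which is integral over a scheme at a point with local ring a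
discrete valuation ring is a valuation ring. -/
theorem valuationRing_stalk {N Y : Scheme.{u}} [IsIntegral N] [IsIntegral Y] (π : N ⟶ Y)
    [IsIntegralHom π] [IsDominant π] (z : N) [IsDiscreteValuationRing (Y.presheaf.stalk (π z))]
    [IsIntegrallyClosed (N.presheaf.stalk z)] : ValuationRing (N.presheaf.stalk z) := by
  obtain ⟨U, hU, hzU, -⟩ := exists_isAffineOpen_mem_and_subset (x := π z) (U := ⊤) trivial
  let V := π ⁻¹ᵁ U
  have hV : IsAffineOpen V := hU.preimage π
  have hzV : z ∈ V := hzU
  have hneV : Nonempty V := ⟨⟨z, hzV⟩⟩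
  have hneU : Nonempty U := ⟨⟨π z, hzU⟩⟩
  let D := Y.presheaf.stalk (π z)
  let B := N.presheaf.stalk z
  let L := N.functionField
  let a0 : Algebra Γ(Y, U) Γ(N, V) := (π.app U).hom.toAlgebra
  let a1 : Algebra D B := (π.stalkMap z).hom.toAlgebra
  let a2 : Algebra Γ(Y, U) D := (Y.presheaf.germ U (π z) hzU).hom.toAlgebra
  let a3 : Algebra D L := ((algebraMap B L).comp (algebraMap D B)).toAlgebra
  let a4 : Algebra Γ(Y, U) L := ((algebraMap Γ(N, V) L).comp (algebraMap Γ(Y, U) Γ(N, V))).toAlgebra
  let a5 : Algebra Γ(N, V) B := (N.presheaf.germ V z hzV).hom.toAlgebra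
  have t1 : IsScalarTower D B L := IsScalarTower.of_algebraMap_eq' rfl
  have t2 : IsScalarTower Γ(Y, U) Γ(N, V) L := IsScalarTower.of_algebraMap_eq' rfl
  have t3 : IsScalarTower Γ(N, V) B L := functionField_isScalarTower N V ⟨z, hzV⟩
  have hcomm : (algebraMap D B).comp (algebraMap Γ(Y, U) D) =
      (algebraMap Γ(N, V) B).comp (algebraMap Γ(Y, U) Γ(N, V)) := by
    have := π.germ_stalkMap U z hzU
    exact congrArg (fun φ => φ.hom) this
  have t4 : IsScalarTower Γ(Y, U) D L := IsScalarTower.of_algebraMap_eq' (by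
    change (algebraMap Γ(N, V) L).comp (algebraMap Γ(Y, U) Γ(N, V)) =
      ((algebraMap B L).comp (algebraMap D B)).comp (algebraMap Γ(Y, U) D)
    rw [RingHom.comp_assoc, hcomm, ← RingHom.comp_assoc,
      IsScalarTower.algebraMap_eq Γ(N, V) B L])
  have hinj : Function.Injective (algebraMap D B) := stalkMap_injective π z
  have hfrB : IsFractionRing B L := inferInstanceAs (IsFractionRing (N.presheaf.stalk z) N.functionField)
  have hfrV : IsFractionRing Γ(N, V) L := functionField_isFractionRing_of_isAffineOpen N V hV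
  have hint : Algebra.IsIntegral Γ(Y, U) Γ(N, V) := by
    have := π.isIntegral_app U hU
    exact ⟨this⟩
  have hUD : Function.Injective (algebraMap Γ(Y, U) D) := germ_injective_of_isIntegral Y (π z) hzU
  have hUL : Function.Injective (algebraMap Γ(Y, U) L) := by
    rw [IsScalarTower.algebraMap_eq Γ(Y, U) D L, IsScalarTower.algebraMap_eq D B L]
    exact ((IsFractionRing.injective B L).comp hinj).comp hUD
  have htf : FaithfulSMul Γ(Y, U) L := (faithfulSMul_iff_algebraMap_injective _ _).2 hUL
  have halg0 : Algebra.IsAlgebraic Γ(Y, U) L :=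
    (IsFractionRing.isAlgebraic_iff' Γ(Y, U) Γ(N, V) L).1 inferInstance
  have halg : Algebra.IsAlgebraic D L := Algebra.IsAlgebraic.extendScalars (R := Γ(Y, U)) hUD
  exact ValRing.valuationRing_of_isAlgebraic hinj L

end Groth.Agent.Sga7.H756.NormStalk
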