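import Groth.Agent.Sga7.H756.IsogAct
import Groth.Agent.Sga7.H756.NormStalk
import Groth.Agent.Sga7.H756.GenPt
import Groth.Agent.Sga7.H756.DvrPt
import Groth.Agent.Sga3C.FlatHomog

/-!
# Flatness of the extension of an isogeny to the normalization
-/

set_option autoImplicit false

universe u

open CategoryTheory CategoryTheory.Limits AlgebraicGeometry MonoidalCategory
  CartesianMonoidalCategory MonObj GrpObj IsLocalRing

namespace Groth.Agent.Sga7.H756.FlatN

open Groth.Agent.Sga7.H756.GenBase Groth.Agent.Sga7.H756.NormUP Groth.Agent.Sga7.H756.NormExt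
  Groth.Agent.Sga7.H756.NormModel Groth.Agent.Sga7.H756.IsogAct Groth.Agent.Sga7.H756.DvrPt
  Groth.Agent.Sga7.H756.GenPt Groth.Agent.Sga7.H756.NormStalk
  Groth.Agent.Sga3C.FlatPt Groth.Agent.Sga3C.GrpBasic Groth.Agent.Sga3C.FlatHomog

attribute [local instance] Functor.grpObjObj

section general

variable {S T : Scheme.{u}} (j : T ⟶ S) [IsOpenImmersion j] [QuasiCompact j]
  [IsSchemeTheoreticallyDominant j]

omit [IsOpenImmersion j] in
/-- A flat scheme over `S` with integral restriction to `T` is integral. -/
theorem isIntegral_of_bcι (G : Over S) [Flat G.hom] [IsIntegral ((Over.pullback j).obj G).left] :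
    IsIntegral G.left := by
  have h1 : IsSchemeTheoreticallyDominant (bcι j G) := inferInstance
  have h2 : IsReduced G.left := IsSchemeTheoreticallyDominant.isReduced (bcι j G)
  have h3 : IrreducibleSpace G.left := by
    have h1 : IsIrreducible (Set.range (bcι j G)) := by
      rw [← Set.image_univ]
      exact (IrreducibleSpace.isIrreducible_univ _).image _ (bcι j G).continuous.continuousOn
    have h2 := h1.closure
    rw [(bcι j G).denseRange.closure_range] at h2
    exact { toPreirreducibleSpace := ⟨h2.2⟩, toNonempty := h2.1.to_subtype.map Subtype.val }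
  exact isIntegral_of_irreducibleSpace_of_isReduced _

variable {G : Over S} {A : Over T} (v : A ⟶ (Over.pullback j).obj G) [IsIntegralHom v.left]

instance isIntegral_NT [IsIntegral A.left] : IsIntegral (NT j v).left :=
  inferInstanceAs (IsIntegral (nf j v).normalization)

theorem isDominant_νO [Flat G.hom] [Surjective v.left] : IsDominant (νO j v).left := by
  have h1 : IsDominant (ιN j v ≫ (νO j v).left) := by
    rw [ιN_νO]
    infer_instance
  exact IsDominant.of_comp (ιN j v) (νO j v).left

instance [IsAffineHom j] : IsAffineHom (bcι j G) :=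
  MorphismProperty.of_isPullback (isPullback_bcι j G).flip ‹_›

omit [IsSchemeTheoreticallyDominant j] in
theorem isIntegrallyClosed_stalk_NT [IsAffineHom j] [IsIntegral A.left]
    (hA : ∀ x : A.left, IsIntegrallyClosed (A.left.presheaf.stalk x)) (z : (NT j v).left) :
    IsIntegrallyClosed ((NT j v).left.presheaf.stalk z) := by
  have : IsAffineHom (nf j v) := by
    unfold nf
    infer_instance
  exact isIntegrallyClosed_stalk (nf j v) hA z

variable (u : (Over.pullback j).obj G ⟶ A) (uN : G ⟶ NT j v)
  (huN : (Over.pullback j).map uN ≫ (eA j v).hom = u)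

omit [IsSchemeTheoreticallyDominant j] in
include huN in
theorem bcι_uN : bcι j G ≫ uN.left = u.left ≫ ιN j v := by
  rw [← bcι_naturality, ← eA_hom_left, ← huN]
  simp

omit [IsSchemeTheoreticallyDominant j] in
include huN in
theorem isDominant_uN [Flat G.hom] [Surjective u.left] : IsDominant uN.left := by
  have h1 : IsDominant (bcι j G ≫ uN.left) := by
    rw [bcι_uN j v u uN huN]
    infer_instance
  exact IsDominant.of_comp (bcι j G) uN.left

omit [IsSchemeTheoreticallyDominant j] in
include huN in
/-- `uN` is flat at all points over `T`. -/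
theorem isFlatAt_of_generic [Flat u.left] (x : G.left) (hx : G.hom x ∈ Set.range j) :
    IsFlatAt uN.left x := by
  obtain ⟨z, hz⟩ := hx
  obtain ⟨w, hw1, -⟩ := Scheme.Pullback.exists_preimage_pullback x z hz.symm
  have : Flat (eA j v).inv.left := by
    have : IsIso (eA j v).inv.left := inferInstanceAs (IsIso ((Over.forget _).map (eA j v).inv))
    infer_instance
  have h2 : (Over.pullback j).map uN = u ≫ (eA j v).inv := by
    rw [← huN, Category.assoc, Iso.hom_inv_id, Category.comp_id]
  have h1 : IsFlatAt (bcι j G ≫ uN.left) w := by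
    rw [← bcι_naturality, h2, Over.comp_left]
    exact isFlatAt_of_flat _ _
  have := IsFlatAt.of_comp (isFlatAt_of_flat _ _) h1
  rwa [show (bcι j G) w = x from hw1] at this

end general

section dvr

variable (R K : Type u) [CommRing R] [IsDomain R] [IsDiscreteValuationRing R] [Field K]
  [Algebra R K] [IsFractionRing R K]

variable {G : Over (Spec (CommRingCat.of R))} [GrpObj G] [Smooth G.hom] [IsSeparated G.hom]
  {A : Over (Spec (CommRingCat.of K))} [GrpObj A]
  (v : A ⟶ (Over.pullback (jK R K)).obj G) [IsIntegralHom v.left]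
  (u : (Over.pullback (jK R K)).obj G ⟶ A) [IsMonHom u] (uN : G ⟶ NT (jK R K) v)
  (huN : (Over.pullback (jK R K)).map uN ≫ (eA (jK R K) v).hom = u)

instance : IsAffineHom (jK R K) := inferInstanceAs (IsAffineHom (Spec.map _))

theorem isLocallyNoetherian_of_smooth {X : Scheme.{u}} (f : X ⟶ Spec (CommRingCat.of R))
    [LocallyOfFiniteType f] : IsLocallyNoetherian X := by
  have : IsNoetherianRing (CommRingCat.of R) := inferInstanceAs (IsNoetherianRing R)
  exact LocallyOfFiniteType.isLocallyNoetherian f

omit [IsMonHom u] [GrpObj A] [IsSeparated G.hom] in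
include huN in
/-- Flatness at a generic point of the special fibre. -/
theorem exists_isFlatAt [IsIntegral A.left]
    (hA : ∀ x : A.left, IsIntegrallyClosed (A.left.presheaf.stalk x)) [IsIntegral G.left]
    [Surjective u.left] [Surjective v.left] (N : G ⟶ G) [Flat N.left] (hN : uN ≫ νO _ v = N) :
    ∃ y : G.left, G.hom y = closedPoint R ∧ IsFlatAt uN.left y := by
  obtain ⟨y, hy1, hy2⟩ := exists_isGenAt G.hom (closedPoint R) (by
    refine ⟨η[G].left (closedPoint R), ?_⟩
    rw [← Scheme.Hom.comp_apply, Over.w]
    rfl)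
  refine ⟨y, hy1, ?_⟩
  have hN' : N.left ≫ G.hom = G.hom := Over.w N
  have hgen : IsGenAt G.hom (N.left y) := IsGenAt.of_w hN' hy2
  have hpt : (νO _ v).left (uN.left y) = N.left y := by
    rw [← Scheme.Hom.comp_apply, ← Over.comp_left, hN]
  have hcl : G.hom (N.left y) = closedPoint R := by
    rw [← Scheme.Hom.comp_apply, hN', hy1]
  rw [← hpt] at hgen hcl
  have := isLocallyNoetherian_of_smooth R G.hom
  obtain ⟨_, hdvr⟩ := exists_isDVR G.hom hcl hgen
  have := isDominant_νO (jK R K) v
  have := isDominant_uN (jK R K) v u uN huN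
  have hic := isIntegrallyClosed_stalk_NT (jK R K) v hA (uN.left y)
  have hval : ValuationRing ((NT (jK R K) v).left.presheaf.stalk (uN.left y)) :=
    valuationRing_stalk (νO _ v).left (uN.left y)
  rw [isFlatAt_iff_stalkMap]
  exact ValRing.flat_of_injective _ (stalkMap_injective uN.left y)

include huN in
theorem flat_uN [IsMonHom v] [IsIntegral A.left]
    (hA : ∀ x : A.left, IsIntegrallyClosed (A.left.presheaf.stalk x)) [IsIntegral G.left]
    [Flat u.left] [Surjective u.left] [Surjective v.left] (N : G ⟶ G) [Flat N.left]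
    (hN : uN ≫ νO _ v = N) (hN' : u ≫ v = (Over.pullback (jK R K)).map N) : Flat uN.left := by
  obtain ⟨y, hy1, hy2⟩ := exists_isFlatAt R K v u uN huN hA N hN
  obtain ⟨τ, hτ⟩ := exists_tau (jK R K) u v N hN'
  apply flat_of_forall_isFlatAt
  intro x
  by_cases hx : G.hom x = closedPoint R
  · refine isFlatAt_of_isFlatAt uN (shear (jK R K) u v τ hτ) ?_ x y (hx.trans hy1.symm) hy2
    have h1 := whiskerLeft_tau (jK R K) u v τ hτ uN huN
    apply CartesianMonoidalCategory.hom_ext
    · simp [shear, mulLeftShear]
    · rw [Category.assoc, shear_snd, h1, Category.assoc, whiskerLeft_snd, ← Category.assoc,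
        mulLeftShear_hom_snd, Category.comp_id, Hom.mul_def, lift_fst_snd, Category.id_comp]
  · exact isFlatAt_of_generic (jK R K) v u uN huN x (exists_jK_eq R K _ hx)

end dvr

end Groth.Agent.Sga7.H756.FlatN
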