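import Groth.Agent.Sga7.H756.GenBase
import Mathlib.CategoryTheory.Monoidal.Cartesian.Grp

/-!
# Extending a group structure from the generic fibre

`W` is a flat separated `S`-scheme whose restriction to `T` is isomorphic to a group scheme `A`.
If the group laws of `A` extend to `W`, then `W` is a group scheme and `W_T ≅ A` is a homomorphism.
-/

set_option autoImplicit false

universe u

open CategoryTheory CategoryTheory.Limits AlgebraicGeometry MonoidalCategory
  CartesianMonoidalCategory MonObj GrpObj

namespace Groth.Agent.Sga7.H756.GrpW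

open Groth.Agent.Sga7.H756.GenBase

attribute [local instance] Functor.grpObjObj

variable {S T : Scheme.{u}} (j : T ⟶ S) {W : Over S} {A : Over T} [GrpObj A]
  (e : (Over.pullback j).obj W ≅ A) (mul : W ⊗ W ⟶ W)
  (hmul : (Over.pullback j).map mul ≫ e.hom = ((Over.pullback j).map (fst W W) ≫ e.hom) *
    ((Over.pullback j).map (snd W W) ≫ e.hom))
  (one : 𝟙_ (Over S) ⟶ W) (hone : (Over.pullback j).map one ≫ e.hom = 1)
  (inv : W ⟶ W) (hinv : (Over.pullback j).map inv ≫ e.hom = e.hom⁻¹)

include hmul in
theorem lift_mul {Y : Over S} (f g : Y ⟶ W) :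
    (Over.pullback j).map (lift f g ≫ mul) ≫ e.hom =
      ((Over.pullback j).map f ≫ e.hom) * ((Over.pullback j).map g ≫ e.hom) := by
  rw [Functor.map_comp, Category.assoc, hmul, MonObj.comp_mul, ← Functor.map_comp_assoc,
    ← Functor.map_comp_assoc, lift_fst, lift_snd]

include hone in
theorem comp_one' {Y : Over S} (f : Y ⟶ 𝟙_ (Over S)) :
    (Over.pullback j).map (f ≫ one) ≫ e.hom = 1 := by
  rw [Functor.map_comp, Category.assoc, hone, MonObj.comp_one]

include hinv in
theorem comp_inv' {Y : Over S} (f : Y ⟶ W) :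
    (Over.pullback j).map (f ≫ inv) ≫ e.hom = ((Over.pullback j).map f ≫ e.hom)⁻¹ := by
  rw [Functor.map_comp, Category.assoc, hinv, GrpObj.comp_inv]

variable [QuasiCompact j] [IsSchemeTheoreticallyDominant j] [Flat W.hom] [IsSeparated W.hom]

omit [GrpObj A] [Flat W.hom] in
theorem ext' {Y : Over S} [Flat Y.hom] {f g : Y ⟶ W}
    (h : (Over.pullback j).map f ≫ e.hom = (Over.pullback j).map g ≫ e.hom) : f = g := by
  rw [cancel_mono] at h
  exact ext_of_flat j h

/-- The group structure on `W`. -/
@[instance_reducible]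
def grpObj : GrpObj W where
  one := one
  mul := mul
  inv := inv
  one_mul := by
    have : Flat (𝟙_ (Over S) ⊗ W : Over S).hom := by
      rw [Over.tensorObj_hom]
      have : Flat (𝟙_ (Over S)).hom := inferInstanceAs (Flat (𝟙 S))
      infer_instance
    apply ext' j e
    have h1 : one ▷ W = lift (fst _ _ ≫ one) (snd _ _) := by
      apply CartesianMonoidalCategory.hom_ext <;> simp
    rw [h1, lift_mul j e mul hmul, comp_one' j e one hone, _root_.one_mul, leftUnitor_hom]
  mul_one := by
    have : Flat (W ⊗ 𝟙_ (Over S) : Over S).hom := by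
      rw [Over.tensorObj_hom]
      have : Flat (𝟙_ (Over S)).hom := inferInstanceAs (Flat (𝟙 S))
      infer_instance
    apply ext' j e
    have h1 : W ◁ one = lift (fst _ _) (snd _ _ ≫ one) := by
      apply CartesianMonoidalCategory.hom_ext <;> simp
    rw [h1, lift_mul j e mul hmul, comp_one' j e one hone, _root_.mul_one, rightUnitor_hom]
  mul_assoc := by
    have : Flat (W ⊗ W : Over S).hom := by
      rw [Over.tensorObj_hom]
      infer_instance
    have : Flat ((W ⊗ W) ⊗ W : Over S).hom := by
      rw [Over.tensorObj_hom]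
      infer_instance
    apply ext' j e
    have h1 : mul ▷ W = lift (fst (W ⊗ W) W ≫ mul) (snd (W ⊗ W) W) := by
      apply CartesianMonoidalCategory.hom_ext <;> simp
    have h2 : (α_ W W W).hom ≫ W ◁ mul =
        lift (fst (W ⊗ W) W ≫ fst W W) (lift (fst (W ⊗ W) W ≫ snd W W) (snd (W ⊗ W) W) ≫ mul) := by
      apply CartesianMonoidalCategory.hom_ext
      · simp
      · rw [Category.assoc, whiskerLeft_snd, lift_snd, ← Category.assoc]
        congr 1
        apply CartesianMonoidalCategory.hom_ext <;> simp
    have h3 : fst (W ⊗ W) W ≫ mul = lift (fst (W ⊗ W) W ≫ fst W W) (fst (W ⊗ W) W ≫ snd W W) ≫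
        mul := by
      rw [← comp_lift, lift_fst_snd, Category.comp_id]
    rw [h1, lift_mul j e mul hmul, ← Category.assoc, h2, lift_mul j e mul hmul,
      lift_mul j e mul hmul, h3, lift_mul j e mul hmul, _root_.mul_assoc]
  left_inv := by
    apply ext' j e
    rw [lift_mul j e mul hmul, comp_one' j e one hone]
    have h1 := comp_inv' j e inv hinv (𝟙 W)
    rw [Category.id_comp] at h1
    rw [h1, inv_mul_cancel]
  right_inv := by
    apply ext' j e
    rw [lift_mul j e mul hmul, comp_one' j e one hone]
    have h1 := comp_inv' j e inv hinv (𝟙 W)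
    rw [Category.id_comp] at h1
    rw [h1, mul_inv_cancel]

theorem isMonHom :
    let _ := grpObj j e mul hmul one hone inv hinv
    IsMonHom e.hom := by
  let _ := grpObj j e mul hmul one hone inv hinv
  refine ⟨?_, ?_⟩
  · change (Functor.LaxMonoidal.ε (Over.pullback j) ≫ (Over.pullback j).map one) ≫ e.hom = η[A]
    rw [Category.assoc, hone, MonObj.comp_one, MonObj.one_eq_one]
  · change (Functor.LaxMonoidal.μ (Over.pullback j) W W ≫ (Over.pullback j).map mul) ≫ e.hom = _
    rw [Category.assoc, hmul, MonObj.comp_mul, Functor.Monoidal.μ_fst_assoc,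
      Functor.Monoidal.μ_snd_assoc, Hom.mul_def]
    congr 1

end Groth.Agent.Sga7.H756.GrpW
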