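import Groth.Agent.Sga7.H756.FlatN
import Groth.Agent.Sga7.H756.GrpW
import Groth.Agent.S0115
import Groth.Agent.Ega43.FPOfComp

/-!
# The image of `uN : G ⟶ NT` is a smooth group scheme with generic fibre `A`
-/

set_option autoImplicit false

universe u

open CategoryTheory CategoryTheory.Limits AlgebraicGeometry MonoidalCategory
  CartesianMonoidalCategory MonObj GrpObj

namespace Groth.Agent.Sga7.H756.ImgU

open Groth.Agent.Sga7.H756.GenBase Groth.Agent.Sga7.H756.NormUP Groth.Agent.Sga7.H756.NormExt
  Groth.Agent.Sga7.H756.NormModel Groth.Agent.Sga7.H756.IsogAct Groth.Agent.Sga7.H756.FlatN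

attribute [local instance] Functor.grpObjObj

section img

variable {S : Scheme.{u}} {G N : Over S} (q : G ⟶ N) [Flat q.left]
  [LocallyOfFinitePresentation q.left]

/-- The image of a flat morphism locally of finite presentation, as an open subscheme. -/
noncomputable def imgOpens : N.left.Opens :=
  ⟨Set.range q.left, q.left.isOpenMap.isOpen_range⟩

/-- The image of a flat morphism locally of finite presentation. -/
noncomputable abbrev img : Over S := Over.mk ((imgOpens q).ι ≫ N.hom)

/-- The inclusion of the image. -/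
noncomputable def imgι : img q ⟶ N := Over.homMk (imgOpens q).ι rfl

instance : IsOpenImmersion (imgι q).left := inferInstanceAs (IsOpenImmersion (imgOpens q).ι)

instance : Mono (imgι q) := (Over.forget S).mono_of_mono_map (inferInstanceAs (Mono (imgι q).left))

theorem range_imgι : Set.range (imgι q).left = Set.range q.left := by
  change Set.range (imgOpens q).ι = _
  rw [Scheme.Opens.range_ι]
  rfl

theorem exists_lift {Y : Over S} (f : Y ⟶ N) (h : Set.range f.left ⊆ Set.range q.left) :
    ∃ g : Y ⟶ img q, g ≫ imgι q = f := by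
  rw [← range_imgι q] at h
  let g0 := IsOpenImmersion.lift (imgι q).left f.left h
  have hg0 : g0 ≫ (imgι q).left = f.left := IsOpenImmersion.lift_fac _ _ _
  have hw : g0 ≫ (img q).hom = Y.hom := by
    rw [← Over.w (imgι q), ← Category.assoc, hg0, Over.w]
  refine ⟨Over.homMk g0 hw, ?_⟩
  ext1
  exact hg0

/-- The projection onto the image. -/
noncomputable def toImg : G ⟶ img q := (exists_lift q q subset_rfl).choose

@[reassoc (attr := simp)]
theorem toImg_imgι : toImg q ≫ imgι q = q := (exists_lift q q subset_rfl).choose_spec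

theorem toImg_left : (toImg q).left ≫ (imgι q).left = q.left := by
  rw [← Over.comp_left, toImg_imgι]

instance : Surjective (toImg q).left := by
  constructor
  intro y
  have h1 : (imgι q).left y ∈ Set.range q.left := by
    rw [← range_imgι]
    exact ⟨y, rfl⟩
  obtain ⟨x, hx⟩ := h1
  refine ⟨x, ?_⟩
  apply (imgι q).left.isOpenEmbedding.injective
  rw [← Scheme.Hom.comp_apply, toImg_left, hx]

instance flat_toImg : Flat (toImg q).left := by
  have h : Flat ((toImg q).left ≫ (imgι q).left) := by rw [toImg_left]; infer_instance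
  exact Groth.Agent.Sga3C.FlatPt.flat_of_comp_mono _ (imgι q).left

instance lfp_toImg : LocallyOfFinitePresentation (toImg q).left := by
  have h : LocallyOfFinitePresentation ((toImg q).left ≫ (imgι q).left) := by
    rw [toImg_left]; infer_instance
  exact Groth.Agent.Ega43.FPOfComp.locallyOfFinitePresentation_of_comp _ (imgι q).left

theorem smooth_img [Smooth G.hom] : Smooth (img q).hom := by
  have h : Smooth ((toImg q).left ≫ (img q).hom) := by rw [Over.w]; infer_instance
  exact Groth.Agent.S0115.result (toImg q).left (img q).hom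

instance isSeparated_img [IsSeparated N.hom] : IsSeparated (img q).hom := by
  have : IsSeparated ((imgι q).left ≫ N.hom) := inferInstance
  rwa [Over.w] at this

end img

section gen

variable {S T : Scheme.{u}} (j : T ⟶ S) [IsOpenImmersion j] [QuasiCompact j]
  {G : Over S} {A : Over T} (v : A ⟶ (Over.pullback j).obj G) [IsIntegralHom v.left]
  (u : (Over.pullback j).obj G ⟶ A) (uN : G ⟶ NT j v)
  (huN : (Over.pullback j).map uN ≫ (eA j v).hom = u)
  [Flat uN.left] [LocallyOfFinitePresentation uN.left]

include huN in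
theorem isIso_map_imgι [Surjective u.left] : IsIso ((Over.pullback j).map (imgι uN)) := by
  have h1 : IsOpenImmersion ((Over.pullback j).map (imgι uN)).left :=
    MorphismProperty.of_isPullback (P := @IsOpenImmersion) (isPullback_map j (imgι uN)).flip
      inferInstance
  have h2 : Surjective ((Over.pullback j).map (imgι uN)).left := by
    constructor
    intro w
    have hiso : IsIso (eA j v).hom.left := inferInstanceAs (IsIso ((Over.forget _).map (eA j v).hom))
    obtain ⟨g, hg⟩ := u.left.surjective ((eA j v).hom.left w)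
    have h3 : bcι j (NT j v) w = uN.left (bcι j G g) := by
      rw [← Scheme.Hom.comp_apply (bcι j G), bcι_uN j v u uN huN, Scheme.Hom.comp_apply, hg,
        ← Scheme.Hom.comp_apply, eA_hom_left]
    have h4 : bcι j (NT j v) w ∈ Set.range (imgι uN).left := by
      rw [range_imgι, h3]
      exact ⟨_, rfl⟩
    obtain ⟨y, hy⟩ := h4
    have H := isPullback_map j (imgι uN)
    obtain ⟨x, hx, -⟩ := Scheme.Pullback.exists_preimage_pullback w y hy.symm
    refine ⟨H.isoPullback.inv x, ?_⟩
    rw [← Scheme.Hom.comp_apply, H.isoPullback_inv_fst, hx]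
  have h3 : IsIso ((Over.pullback j).map (imgι uN)).left :=
    (isIso_iff_isOpenImmersion_and_surjective _).2 ⟨h1, h2⟩
  have h4 : IsIso ((Over.forget T).map ((Over.pullback j).map (imgι uN))) := h3
  exact isIso_of_reflects_iso _ (Over.forget T)

/-- The generic fibre of the image. -/
noncomputable def eW [Surjective u.left] : (Over.pullback j).obj (img uN) ≅ A :=
  @asIso _ _ _ _ ((Over.pullback j).map (imgι uN)) (isIso_map_imgι j v u uN huN) ≪≫ eA j v

theorem eW_hom [Surjective u.left] : (eW j v u uN huN).hom =
    (Over.pullback j).map (imgι uN) ≫ (eA j v).hom := rfl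

theorem map_toImg_eW [Surjective u.left] :
    (Over.pullback j).map (toImg uN) ≫ (eW j v u uN huN).hom = u := by
  rw [eW_hom, ← Functor.map_comp_assoc, toImg_imgι, huN]

theorem eW_comp [Surjective u.left] :
    (eW j v u uN huN).hom ≫ v = (Over.pullback j).map (imgι uN ≫ νO j v) := by
  rw [eW_hom, Category.assoc, eA_hom_comp, Functor.map_comp]

end gen

section grp

variable {S T : Scheme.{u}} (j : T ⟶ S) [IsOpenImmersion j] [QuasiCompact j]
  [IsSchemeTheoreticallyDominant j]
  {G : Over S} {A : Over T} (v : A ⟶ (Over.pullback j).obj G) [IsIntegralHom v.left]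
  (u : (Over.pullback j).obj G ⟶ A) (uN : G ⟶ NT j v)
  (huN : (Over.pullback j).map uN ≫ (eA j v).hom = u)
  [Flat uN.left] [LocallyOfFinitePresentation uN.left] [Surjective u.left]
  [IsSeparated G.hom]

theorem exists_lift_W (hj : IsIso j.fromNormalization) {Y Y' : Over S} [Smooth Y.hom]
    [Flat Y'.hom] (q : Y' ⟶ Y) [Surjective q.left] (k : (Over.pullback j).obj Y ⟶ A) (a : Y ⟶ G)
    (hk : k ≫ v = (Over.pullback j).map a) (d : Y' ⟶ G)
    (hd : (Over.pullback j).map q ≫ k = (Over.pullback j).map d ≫ u) :
    ∃ m : Y ⟶ img uN, (Over.pullback j).map m ≫ (eW j v u uN huN).hom = k := by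
  obtain ⟨c, hc1, hc2⟩ := exists_ext_over j hj a (νO j v) (k ≫ (eA j v).inv) (by
    rw [Category.assoc, eA_inv_comp, hk])
  have hc3 : (Over.pullback j).map c ≫ (eA j v).hom = k := by
    rw [hc2, Category.assoc, Iso.inv_hom_id, Category.comp_id]
  have h1 : q ≫ c = d ≫ uN := by
    apply ext_NT j v
    rw [Functor.map_comp, Category.assoc, hc3, hd, Functor.map_comp, Category.assoc, huN]
  have h2 : Set.range c.left ⊆ Set.range uN.left := by
    rintro _ ⟨y, rfl⟩
    obtain ⟨y', rfl⟩ := q.left.surjective y
    rw [← Scheme.Hom.comp_apply, ← Over.comp_left, h1, Over.comp_left, Scheme.Hom.comp_apply]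
    exact ⟨_, rfl⟩
  obtain ⟨m, hm⟩ := exists_lift uN c h2
  refine ⟨m, ?_⟩
  rw [eW_hom, ← Functor.map_comp_assoc, hm, hc3]

variable [GrpObj G] [Smooth G.hom] [GrpObj A] [IsMonHom u] [IsMonHom v]

/-- The image of `uN` is a group scheme with generic fibre `A`. -/
theorem exists_grpObj (hj : IsIso j.fromNormalization) :
    ∃ _ : GrpObj (img uN), IsMonHom (eW j v u uN huN).hom := by
  have hsm : Smooth (img uN).hom := smooth_img uN
  have hsm2 : Smooth (img uN ⊗ img uN : Over S).hom := by
    rw [Over.tensorObj_hom]
    infer_instance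
  have hfl2 : Flat (G ⊗ G : Over S).hom := by
    rw [Over.tensorObj_hom]
    infer_instance
  have hsm1 : Smooth (𝟙_ (Over S)).hom := inferInstanceAs (Smooth (𝟙 S))
  let p := toImg uN
  let w : img uN ⟶ G := imgι uN ≫ νO j v
  have hsurj : Surjective (p ⊗ₘ p).left := by
    have h1 : p ⊗ₘ p = (p ▷ G) ≫ (img uN ◁ p) := by rw [tensorHom_def]
    have h2 : Surjective (p ▷ G).left :=
      MorphismProperty.of_isPullback (P := @Surjective)
        (Groth.Agent.Sga3C.SchemImage.isPullback_whiskerRight_left p G).flip inferInstance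
    have h3 : Surjective (img uN ◁ p).left :=
      MorphismProperty.of_isPullback (P := @Surjective)
        (Groth.Agent.Sga3C.SchemImage.isPullback_whiskerLeft_left p (img uN)).flip inferInstance
    rw [h1, Over.comp_left]
    infer_instance
  -- multiplication
  obtain ⟨mul, hmul⟩ := exists_lift_W j v u uN huN hj (p ⊗ₘ p)
    (((Over.pullback j).map (fst (img uN) (img uN)) ≫ (eW j v u uN huN).hom) *
      ((Over.pullback j).map (snd (img uN) (img uN)) ≫ (eW j v u uN huN).hom))
    ((fst _ _ ≫ w) * (snd _ _ ≫ w)) (by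
      rw [MonObj.mul_comp, Category.assoc, Category.assoc, eW_comp, Functor.map_mul,
        ← Functor.map_comp, ← Functor.map_comp]) μ[G] (by
      rw [MonObj.comp_mul, ← Functor.map_comp_assoc, ← Functor.map_comp_assoc, tensorHom_fst,
        tensorHom_snd, Functor.map_comp_assoc, Functor.map_comp_assoc]
      simp only [p]
      rw [map_toImg_eW, ← MonObj.mul_comp, ← Functor.map_mul, Hom.mul_def, lift_fst_snd,
        Category.id_comp])
  -- unit
  obtain ⟨one, hone⟩ := exists_lift_W j v u uN huN hj (𝟙 (𝟙_ (Over S))) 1 η[G] (by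
    rw [MonObj.one_eq_one, MonObj.one_comp, Functor.map_one]) η[G] (by
    rw [MonObj.one_eq_one, Functor.map_one, MonObj.one_comp, MonObj.comp_one])
  -- inverse
  obtain ⟨inv, hinv⟩ := exists_lift_W j v u uN huN hj p (eW j v u uN huN).hom⁻¹ w⁻¹ (by
    rw [GrpObj.inv_comp, eW_comp, Functor.map_inv']) ι[G] (by
    simp only [p]
    rw [GrpObj.comp_inv, map_toImg_eW, GrpObj.inv_eq_inv, Functor.map_inv', CategoryTheory.Functor.map_id,
      GrpObj.inv_comp, Category.id_comp])
  exact ⟨GrpW.grpObj j (eW j v u uN huN) mul hmul one hone inv hinv,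
    GrpW.isMonHom j (eW j v u uN huN) mul hmul one hone inv hinv⟩

end grp

end Groth.Agent.Sga7.H756.ImgU
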