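import Groth.Agent.Sga7.H756.NormModel
import Mathlib.CategoryTheory.Monoidal.Cartesian.Grp

/-!
# The action of `G` on the normalization of `G` in an isogenous group

`u : G_T ⟶ A`, `v : A ⟶ G_T` homomorphisms with `u ≫ v = N_T` for a morphism `N : G ⟶ G`.
Then `u` extends to `uN : G ⟶ NT j v` and the action of `G_T` on `A` through `u` extends to an
action `τ : G ⊗ NT j v ⟶ NT j v`.
-/

set_option autoImplicit false

universe u

open CategoryTheory CategoryTheory.Limits AlgebraicGeometry MonoidalCategory
  CartesianMonoidalCategory MonObj GrpObj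

namespace Groth.Agent.Sga7.H756.IsogAct

open Groth.Agent.Sga7.H756.GenBase Groth.Agent.Sga7.H756.NormUP Groth.Agent.Sga7.H756.NormExt
  Groth.Agent.Sga7.H756.NormModel

attribute [local instance] Functor.grpObjObj

variable {S T : Scheme.{u}} (j : T ⟶ S) [IsOpenImmersion j] [QuasiCompact j]
  {G : Over S} [GrpObj G] [Smooth G.hom] {A : Over T} [GrpObj A]
  (u : (Over.pullback j).obj G ⟶ A) (v : A ⟶ (Over.pullback j).obj G) [IsMonHom v]
  [IsIntegralHom v.left] (N : G ⟶ G) (hN : u ≫ v = (Over.pullback j).map N)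

omit [GrpObj G] [GrpObj A] [IsMonHom v] in
include hN in
theorem exists_uN (hj : IsIso j.fromNormalization) : ∃ uN : G ⟶ NT j v, uN ≫ νO j v = N ∧
    (Over.pullback j).map uN ≫ (eA j v).hom = u := by
  obtain ⟨c, hc1, hc2⟩ := exists_ext_over j hj (W := G) N (νO j v) (u ≫ (eA j v).inv) (by
    rw [Category.assoc, eA_inv_comp, hN])
  refine ⟨c, hc1, ?_⟩
  rw [hc2, Category.assoc, Iso.inv_hom_id, Category.comp_id]

include hN in
theorem exists_tau : ∃ τ : G ⊗ NT j v ⟶ NT j v, (Over.pullback j).map τ ≫ (eA j v).hom =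
    ((Over.pullback j).map (fst G (NT j v)) ≫ u) *
      ((Over.pullback j).map (snd G (NT j v)) ≫ (eA j v).hom) := by
  have hs : Smooth (snd G G).left := by rw [Over.snd_left]; infer_instance
  have hV : IsPullback (snd G (NT j v)).left (G ◁ νO j v).left (νO j v).left (snd G G).left :=
    (Groth.Agent.Sga3C.SchemImage.isPullback_whiskerLeft_left (νO j v) G).flip
  obtain ⟨c, -, hc2⟩ := exists_desc_over j v (snd G G) hV ((fst G G ≫ N) * snd G G) (νO j v)
    ((((Over.pullback j).map (fst G (NT j v)) ≫ u) *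
      ((Over.pullback j).map (snd G (NT j v)) ≫ (eA j v).hom)) ≫ (eA j v).inv) (by
    rw [Category.assoc, eA_inv_comp, MonObj.mul_comp, Category.assoc, Category.assoc, hN,
      eA_hom_comp, ← Functor.map_comp, ← Functor.map_comp, ← Functor.map_mul, MonObj.comp_mul]
    simp)
  refine ⟨c, ?_⟩
  rw [hc2, Category.assoc, Iso.inv_hom_id, Category.comp_id]

variable [IsSeparated G.hom]

omit [GrpObj G] [Smooth G.hom] [IsMonHom v] [GrpObj A] in
instance isSeparated_NT : IsSeparated (NT j v).hom := by
  have : IsSeparated ((νO j v).left ≫ G.hom) := inferInstance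
  rwa [Over.w] at this

omit [GrpObj G] [Smooth G.hom] [IsMonHom v] [GrpObj A] in
theorem ext_NT {X : Over S} [IsSchemeTheoreticallyDominant (bcι j X)] {f g : X ⟶ NT j v}
    (h : (Over.pullback j).map f ≫ (eA j v).hom = (Over.pullback j).map g ≫ (eA j v).hom) :
    f = g := by
  apply ext_of_dominant j
  rwa [cancel_mono] at h

omit [GrpObj G] [IsSeparated G.hom] [IsOpenImmersion j] in
theorem dominant_tensor (X : Over S) [IsSchemeTheoreticallyDominant (bcι j X)] :
    IsSchemeTheoreticallyDominant (bcι j (G ⊗ X)) := by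
  have : Flat (snd G X).left := Groth.Agent.Sga3C.SchemImage.flat_snd G X
  exact IsSchemeTheoreticallyDominant.of_isPullback (isPullback_map j (snd G X))

section tau

variable (τ : G ⊗ NT j v ⟶ NT j v) (hτ : (Over.pullback j).map τ ≫ (eA j v).hom =
    ((Over.pullback j).map (fst G (NT j v)) ≫ u) *
      ((Over.pullback j).map (snd G (NT j v)) ≫ (eA j v).hom))

omit [IsSeparated G.hom] [IsMonHom v] [GrpObj G] [Smooth G.hom] in
include hτ in
theorem tau_lift {X : Over S} (a : X ⟶ G) (b : X ⟶ NT j v) :
    (Over.pullback j).map (lift a b ≫ τ) ≫ (eA j v).hom =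
      ((Over.pullback j).map a ≫ u) * ((Over.pullback j).map b ≫ (eA j v).hom) := by
  rw [Functor.map_comp, Category.assoc, hτ, MonObj.comp_mul, ← Functor.map_comp_assoc,
    ← Functor.map_comp_assoc, lift_fst, lift_snd]

variable [IsMonHom u] [IsSchemeTheoreticallyDominant j]

omit [IsMonHom v] in
include hτ in
/-- compatibility of the action with the orbit map -/
theorem whiskerLeft_tau (uN : G ⟶ NT j v)
    (huN : (Over.pullback j).map uN ≫ (eA j v).hom = u) :
    (G ◁ uN) ≫ τ = μ[G] ≫ uN := by
  have : Flat (G ⊗ G : Over S).hom := by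
    rw [Over.tensorObj_hom]
    infer_instance
  apply ext_NT j v
  have h1 : (G ◁ uN) = lift (fst G G) (snd G G ≫ uN) := by
    apply CartesianMonoidalCategory.hom_ext <;> simp
  rw [h1, tau_lift j u v τ hτ, Functor.map_comp, Category.assoc, huN, Functor.map_comp,
    Category.assoc, huN, ← MonObj.mul_comp, ← Functor.map_mul, Hom.mul_def, lift_fst_snd,
    Category.id_comp]

omit [IsMonHom v] in
include hτ in
theorem tau_inv_tau :
    lift (fst G (NT j v))⁻¹ τ ≫ τ = snd G (NT j v) := by
  have := dominant_tensor j (G := G) (NT j v)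
  apply ext_NT j v
  rw [tau_lift j u v τ hτ, Functor.map_inv', GrpObj.inv_comp, hτ, inv_mul_cancel_left]

omit [IsMonHom v] in
include hτ in
theorem tau_tau_inv :
    lift (fst G (NT j v)) (lift (fst G (NT j v))⁻¹ (snd G (NT j v)) ≫ τ) ≫ τ =
      snd G (NT j v) := by
  have := dominant_tensor j (G := G) (NT j v)
  apply ext_NT j v
  rw [tau_lift j u v τ hτ, tau_lift j u v τ hτ, Functor.map_inv', GrpObj.inv_comp,
    mul_inv_cancel_left]

/-- The automorphism `(t, x) ↦ (t, τ (t, x))`. -/
noncomputable def shear : G ⊗ NT j v ≅ G ⊗ NT j v where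
  hom := lift (fst _ _) τ
  inv := lift (fst _ _) (lift (fst _ _)⁻¹ (snd _ _) ≫ τ)
  hom_inv_id := by
    have h := tau_inv_tau j u v τ hτ
    apply CartesianMonoidalCategory.hom_ext
    · simp
    · rw [Category.assoc, lift_snd, ← Category.assoc, comp_lift, GrpObj.comp_inv, lift_fst,
        lift_snd, h, Category.id_comp]
  inv_hom_id := by
    have h := tau_tau_inv j u v τ hτ
    apply CartesianMonoidalCategory.hom_ext
    · simp
    · rw [Category.assoc, lift_snd, h, Category.id_comp]

theorem shear_snd : (shear j u v τ hτ).hom ≫ snd _ _ = τ := lift_snd _ _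

include u hτ in
theorem smooth_tau : Smooth τ.left := by
  rw [← shear_snd j u v τ hτ, Over.comp_left]
  have : IsIso (shear j u v τ hτ).hom.left :=
    inferInstanceAs (IsIso ((Over.forget _).map (shear j u v τ hτ).hom))
  have : Smooth (snd G (NT j v)).left := by rw [Over.snd_left]; infer_instance
  infer_instance

end tau

end Groth.Agent.Sga7.H756.IsogAct
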