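import Groth.Agent.Sga7.H756.NormUP
import Groth.Agent.Ega3B.NormalBirational
import Mathlib.RingTheory.DiscreteValuationRing.Basic

/-!
# Extension of morphisms from the generic fibre of a smooth scheme into an integral scheme
-/

set_option autoImplicit false

universe u

open CategoryTheory CategoryTheory.Limits AlgebraicGeometry

namespace Groth.Agent.Sga7.H756.NormExt

open Groth.Agent.Sga7.H756.GenBase Groth.Agent.Sga7.H756.NormUP

variable {S T : Scheme.{u}} (j : T ⟶ S)

/-- If `S` is integrally closed in `T` then for `W` smooth over `S`, morphisms from the restriction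
of `W` to `T` into an integral scheme extend. -/
theorem exists_ext [QuasiCompact j] [QuasiSeparated j] (hj : IsIso j.fromNormalization)
    {W : Over S} [Smooth W.hom] {Z B : Scheme.{u}} (a : W.left ⟶ B) (ν : Z ⟶ B)
    [IsIntegralHom ν] (k : ((Over.pullback j).obj W).left ⟶ Z) (hk : k ≫ ν = bcι j W ≫ a) :
    ∃ c : W.left ⟶ Z, c ≫ ν = a ∧ bcι j W ≫ c = k := by
  have hP := (isPullback_bcι j W).flip
  have hP' : IsPullback (W.hom ≫ inv j.fromNormalization) (𝟙 W.left) j.fromNormalization W.hom := by
    refine IsPullback.of_vert_isIso ⟨?_⟩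
    simp
  obtain ⟨c, hc, hc'⟩ := exists_desc j W.hom hP hP' a ν k hk
  refine ⟨c, by simpa using hc, ?_⟩
  rw [← hc']
  congr 1
  have := toBC_snd j W.hom hP hP'
  rw [Category.comp_id] at this
  exact this.symm

end Groth.Agent.Sga7.H756.NormExt
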