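import Groth.Agent.Sga7.H756.NormExt
import Groth.Agent.Sga3C.SchemImage

/-!
# The normalization of a group scheme in an isogeny of its generic fibre

`j : T ⟶ S` is an open immersion, quasi-compact and schematically dominant, `G` an `S`-scheme,
`v : A ⟶ G_T` an integral morphism of `T`-schemes.  `NT j v` is the normalization of `G` in `A`,
`νO j v : NT j v ⟶ G` the structure morphism, `eA j v : (NT j v)_T ≅ A`.
-/

set_option autoImplicit false

universe u

open CategoryTheory CategoryTheory.Limits AlgebraicGeometry MonoidalCategory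
  CartesianMonoidalCategory

namespace Groth.Agent.Sga7.H756.NormModel

open Groth.Agent.Sga7.H756.GenBase Groth.Agent.Sga7.H756.NormUP Groth.Agent.Sga7.H756.NormExt

variable {S T : Scheme.{u}} (j : T ⟶ S)

/-- a criterion to recognize the restriction to `T` of a morphism -/
theorem map_eq_of_bcι {W Z : Over S} (c : W ⟶ Z)
    (k : (Over.pullback j).obj W ⟶ (Over.pullback j).obj Z)
    (h : bcι j W ≫ c.left = k.left ≫ bcι j Z) : (Over.pullback j).map c = k := by
  apply Over.OverMorphism.ext
  refine (isPullback_bcι j Z).hom_ext ?_ ?_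
  · rw [bcι_naturality, h]
  · rw [Over.w, Over.w]

theorem exists_ext_over [QuasiCompact j] [QuasiSeparated j] (hj : IsIso j.fromNormalization)
    {W B Z : Over S} [Smooth W.hom] (a : W ⟶ B) (ν : Z ⟶ B) [IsIntegralHom ν.left]
    (k : (Over.pullback j).obj W ⟶ (Over.pullback j).obj Z)
    (hk : k ≫ (Over.pullback j).map ν = (Over.pullback j).map a) :
    ∃ c : W ⟶ Z, c ≫ ν = a ∧ (Over.pullback j).map c = k := by
  obtain ⟨c, hc1, hc2⟩ := exists_ext j hj a.left ν.left (k.left ≫ bcι j Z) (by
    rw [Category.assoc, ← bcι_naturality, ← bcι_naturality, ← Category.assoc, ← Over.comp_left,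
      hk])
  have hw : c ≫ Z.hom = W.hom := by
    rw [← Over.w ν, ← Category.assoc, hc1, Over.w]
  refine ⟨Over.homMk c hw, ?_, ?_⟩
  · ext1
    exact hc1
  · exact map_eq_of_bcι j _ _ hc2

section

variable [IsOpenImmersion j] [QuasiCompact j] {G : Over S} {A : Over T}
  (v : A ⟶ (Over.pullback j).obj G) [IsIntegralHom v.left]

/-- The morphism `A ⟶ G`. -/
noncomputable def nf : A.left ⟶ G.left := v.left ≫ bcι j G

instance : QuasiCompact (nf j v) := by unfold nf; infer_instance

instance : QuasiSeparated (nf j v) := by unfold nf; infer_instance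

/-- The normalization of `G` in `A`, as a scheme over `S`. -/
noncomputable abbrev NT : Over S := Over.mk ((nf j v).fromNormalization ≫ G.hom)

/-- The structure morphism of the normalization. -/
noncomputable def νO : NT j v ⟶ G := Over.homMk (nf j v).fromNormalization rfl

/-- The inclusion of `A` in the normalization. -/
noncomputable abbrev ιN : A.left ⟶ (NT j v).left := (nf j v).toNormalization

theorem νO_left : (νO j v).left = (nf j v).fromNormalization := rfl

instance : IsIntegralHom (νO j v).left :=
  inferInstanceAs (IsIntegralHom (nf j v).fromNormalization)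

@[reassoc]
theorem ιN_νO : ιN j v ≫ (νO j v).left = v.left ≫ bcι j G :=
  (nf j v).toNormalization_fromNormalization

omit [QuasiCompact j] [IsIntegralHom v.left] in
theorem isPullback_nf : IsPullback (𝟙 A.left) v.left (nf j v) (bcι j G) :=
  IsPullback.of_horiz_isIso_mono ⟨by simp [nf]⟩

theorem isPullback_ιN : IsPullback (ιN j v) v.left (νO j v).left (bcι j G) := by
  have hP := isPullback_nf j v
  have hP' := IsPullback.of_hasPullback (nf j v).fromNormalization (bcι j G)
  have h1 : IsIso (toBC (nf j v) (bcι j G) hP hP') := isIso_toBC _ _ _ _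
  refine IsPullback.of_iso_pullback ⟨ιN_νO j v⟩ (@asIso _ _ _ _ (toBC (nf j v) (bcι j G) hP hP') h1)
    ((toBC_fst _ _ hP hP').trans (Category.id_comp _)) (toBC_snd _ _ hP hP')

theorem isPullback_gen : IsPullback (ιN j v) A.hom (NT j v).hom j := by
  have h := (isPullback_ιN j v).paste_vert (isPullback_bcι j G)
  rw [Over.w, Over.w] at h
  exact h

/-- The generic fibre of the normalization is `A`. -/
noncomputable def eA : (Over.pullback j).obj (NT j v) ≅ A :=
  Over.isoMk ((isPullback_bcι j (NT j v)).isoIsPullback _ _ (isPullback_gen j v))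
    (IsPullback.isoIsPullback_hom_snd _ _ _ _)

@[reassoc]
theorem eA_hom_left : (eA j v).hom.left ≫ ιN j v = bcι j (NT j v) :=
  IsPullback.isoIsPullback_hom_fst _ _ _ _

@[reassoc]
theorem eA_hom_comp : (eA j v).hom ≫ v = (Over.pullback j).map (νO j v) := by
  symm
  apply map_eq_of_bcι
  rw [Over.comp_left, Category.assoc, ← ιN_νO, eA_hom_left_assoc]

@[reassoc]
theorem eA_inv_comp : (eA j v).inv ≫ (Over.pullback j).map (νO j v) = v := by
  rw [Iso.inv_comp_eq, eA_hom_comp]

instance : IsSchemeTheoreticallyDominant (ιN j v) :=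
  inferInstanceAs (IsSchemeTheoreticallyDominant (nf j v).toNormalization)

instance : IsSchemeTheoreticallyDominant (bcι j (NT j v)) := by
  rw [← eA_hom_left]
  have : IsIso (eA j v).hom.left := inferInstanceAs (IsIso ((Over.forget _).map (eA j v).hom))
  infer_instance

/-- Universal property of smooth base changes of the normalization. -/
theorem exists_desc_over {V V' B Z : Over S} (g : V ⟶ G) [Smooth g.left] {p' : V' ⟶ NT j v}
    {q' : V' ⟶ V} (hV : IsPullback p'.left q'.left (νO j v).left g.left) (a : V ⟶ B) (ν : Z ⟶ B)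
    [IsIntegralHom ν.left] (k : (Over.pullback j).obj V' ⟶ (Over.pullback j).obj Z)
    (hk : k ≫ (Over.pullback j).map ν = (Over.pullback j).map (q' ≫ a)) :
    ∃ c : V' ⟶ Z, c ≫ ν = q' ≫ a ∧ (Over.pullback j).map c = k := by
  have hP : IsPullback ((Over.pullback j).map p' ≫ (eA j v).hom).left (bcι j V' ≫ q'.left)
      (nf j v) g.left := by
    have h1 : IsPullback ((Over.pullback j).map p' ≫ (eA j v).hom).left (bcι j V') (ιN j v)
        p'.left := by
      have h2 := isPullback_map j p'
      have : IsIso (eA j v).hom.left := inferInstanceAs (IsIso ((Over.forget _).map (eA j v).hom))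
      have h3 : IsPullback (eA j v).hom.left (bcι j (NT j v)) (ιN j v) (𝟙 _) :=
        IsPullback.of_horiz_isIso ⟨by rw [Category.comp_id, eA_hom_left]⟩
      have h4 := h2.paste_horiz h3
      rwa [Category.comp_id] at h4
    have h5 := h1.paste_vert hV
    rwa [ιN_νO] at h5
  have hV' : IsPullback p'.left q'.left (nf j v).fromNormalization g.left := hV
  obtain ⟨c, hc1, hc2⟩ := exists_desc (nf j v) g.left hP hV' a.left ν.left
    (k.left ≫ bcι j Z) (by
      rw [Category.assoc, ← bcι_naturality, ← Category.assoc, ← Over.comp_left, hk,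
        bcι_naturality, Over.comp_left, Category.assoc])
  have hw : c ≫ Z.hom = V'.hom := by
    rw [← Over.w ν, ← Category.assoc, hc1, Category.assoc, Over.w, Over.w]
  refine ⟨Over.homMk c hw, ?_, ?_⟩
  · ext1
    exact hc1
  · apply map_eq_of_bcι j
    rw [← hc2]
    change bcι j V' ≫ c = _
    congr 1
    refine hV'.hom_ext ?_ ?_
    · rw [toBC_fst, Over.comp_left, Category.assoc]
      change _ = _ ≫ _ ≫ ιN j v
      rw [eA_hom_left, bcι_naturality]
    · rw [toBC_snd]

end

end Groth.Agent.Sga7.H756.NormModel
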