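import Groth.Agent.Sga7.H756.GenBase

/-!
# Universal property of the relative normalization after a smooth base change
-/

set_option autoImplicit false

universe u

open CategoryTheory CategoryTheory.Limits AlgebraicGeometry

namespace Groth.Agent.Sga7.H756.NormUP

open Groth.Agent.Sga7.H756.GenBase

section

variable {X Y T P P' Z B : Scheme.{u}} (f : X ⟶ Y) [QuasiCompact f] [QuasiSeparated f] (g : T ⟶ Y)
  {p : P ⟶ X} {q : P ⟶ T} (hP : IsPullback p q f g)
  {p' : P' ⟶ f.normalization} {q' : P' ⟶ T} (hP' : IsPullback p' q' f.fromNormalization g)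

include hP in
theorem lift_w : (p ≫ f.toNormalization) ≫ f.fromNormalization = q ≫ g := by
  rw [Category.assoc, Scheme.Hom.toNormalization_fromNormalization, hP.w]

/-- The map from the base change of `X` to the base change of the normalization of `Y` in `X`. -/
noncomputable def toBC : P ⟶ P' := hP'.lift (p ≫ f.toNormalization) q (lift_w f g hP)

@[reassoc (attr := simp)]
theorem toBC_fst : toBC f g hP hP' ≫ p' = p ≫ f.toNormalization := hP'.lift_fst _ _ _

@[reassoc (attr := simp)]
theorem toBC_snd : toBC f g hP hP' ≫ q' = q := hP'.lift_snd _ _ _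

theorem isPullback_toBC : IsPullback (toBC f g hP hP') p p' f.toNormalization := by
  refine IsPullback.of_right ?_ (toBC_fst f g hP hP') hP'.flip
  rw [toBC_snd, Scheme.Hom.toNormalization_fromNormalization]
  exact hP.flip

instance isSchemeTheoreticallyDominant_toNormalization :
    IsSchemeTheoreticallyDominant f.toNormalization := ⟨f.ker_toNormalization⟩

theorem isSchemeTheoreticallyDominant_toBC [Flat g] :
    IsSchemeTheoreticallyDominant (toBC f g hP hP') := by
  have : Flat p' := MorphismProperty.of_isPullback hP'.flip inferInstance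
  exact IsSchemeTheoreticallyDominant.of_isPullback (isPullback_toBC f g hP hP').flip

@[reassoc]
theorem toBC_isoPullback : toBC f g hP hP' ≫ hP'.isoPullback.hom =
    hP.isoPullback.hom ≫ (pullback.snd f g).toNormalization ≫ f.normalizationPullback g := by
  apply pullback.hom_ext
  · rw [Category.assoc, IsPullback.isoPullback_hom_fst, toBC_fst, Category.assoc,
      Category.assoc, Scheme.Hom.toNormalization_normalizationPullback_fst,
      IsPullback.isoPullback_hom_fst_assoc]
  · rw [Category.assoc, IsPullback.isoPullback_hom_snd, toBC_snd, Category.assoc,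
      Category.assoc, Scheme.Hom.normalizationPullback_snd,
      Scheme.Hom.toNormalization_fromNormalization, IsPullback.isoPullback_hom_snd]

theorem isIso_toBC [Smooth g] [IsIntegralHom q] : IsIso (toBC f g hP hP') := by
  have h1 : IsIntegralHom (pullback.snd f g) := by
    rw [← hP.isoPullback_inv_snd]
    infer_instance
  have h2 : IsIso (toBC f g hP hP' ≫ hP'.isoPullback.hom) := by
    rw [toBC_isoPullback]
    infer_instance
  exact IsIso.of_isIso_comp_right _ hP'.isoPullback.hom

/-- Universal property of the smooth base change of a relative normalization. -/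
theorem exists_desc [Smooth g] (a : T ⟶ B) (ν : Z ⟶ B) [IsIntegralHom ν] (k : P ⟶ Z)
    (hk : k ≫ ν = q ≫ a) :
    ∃ c : P' ⟶ Z, c ≫ ν = q' ≫ a ∧ toBC f g hP hP' ≫ c = k := by
  -- first for the standard pullbacks
  let h : pullback ν a ⟶ T := pullback.snd ν a
  have hw : (hP.isoPullback.inv ≫ k) ≫ ν = pullback.snd f g ≫ a := by
    rw [Category.assoc, hk, ← Category.assoc, IsPullback.isoPullback_inv_snd]
  let k' : pullback f g ⟶ pullback ν a :=
    pullback.lift (hP.isoPullback.inv ≫ k) (pullback.snd f g) hw
  have hk' : pullback.snd f g = k' ≫ h := (pullback.lift_snd _ _ _).symm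
  let d : pullback f.fromNormalization g ⟶ pullback ν a :=
    inv (f.normalizationPullback g) ≫ (pullback.snd f g).normalizationDesc k' h hk'
  have hd1 : d ≫ h = pullback.snd _ _ := by
    dsimp only [d]
    rw [Category.assoc, Scheme.Hom.normalizationDesc_comp, IsIso.inv_comp_eq,
      Scheme.Hom.normalizationPullback_snd]
  have hd2 : (pullback.snd f g).toNormalization ≫ f.normalizationPullback g ≫ d = k' := by
    dsimp only [d]
    rw [IsIso.hom_inv_id_assoc, Scheme.Hom.toNormalization_normalizationDesc]
  refine ⟨hP'.isoPullback.hom ≫ d ≫ pullback.fst ν a, ?_, ?_⟩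
  · rw [Category.assoc, Category.assoc, pullback.condition]
    change hP'.isoPullback.hom ≫ d ≫ h ≫ a = _
    rw [← Category.assoc d, hd1, ← Category.assoc, IsPullback.isoPullback_hom_snd]
  · rw [← Category.assoc, toBC_isoPullback, Category.assoc, Category.assoc, ← Category.assoc
      (f.normalizationPullback g), ← Category.assoc (pullback.snd f g).toNormalization, hd2,
      pullback.lift_fst, Iso.hom_inv_id_assoc]

end

end Groth.Agent.Sga7.H756.NormUP
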